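import Mathlib

/-!
The polynomial of a finite additive subgroup of a domain is additive.
-/

universe u v

open Polynomial

set_option autoImplicit false

namespace Groth.Agent.BddFin96

theorem prod_additive {L : Type u} [Field L] (s : Finset L) (h0 : (0 : L) ∈ s)
    (hadd : ∀ a ∈ s, ∀ b ∈ s, a + b ∈ s) {R : Type v} [CommRing R] [Algebra L R] (x y : R) :
    aeval (x + y) (∏ a ∈ s, (X - C a)) =
      aeval x (∏ a ∈ s, (X - C a)) + aeval y (∏ a ∈ s, (X - C a)) := by
  classical
  set f : L[X] := ∏ a ∈ s, (X - C a) with hf
  have hmon : f.Monic := monic_prod_of_monic _ _ fun a _ => monic_X_sub_C a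
  have hdeg : f.natDegree = s.card := by
    rw [hf, natDegree_prod _ _ fun a _ => X_sub_C_ne_zero a]
    simp
  have hshift : ∀ a ∈ s, f.comp (X + C a) = f := by
    intro a ha
    rw [hf, prod_comp]
    have himg : s.image (fun b => b - a) = s := by
      refine (Finset.eq_of_subset_of_card_le (fun b hb => ?_) ?_).symm
      · exact Finset.mem_image.mpr ⟨b + a, hadd b hb a ha, add_sub_cancel_right b a⟩
      · rw [Finset.card_image_of_injective _ sub_left_injective]
    conv_rhs => rw [← himg, Finset.prod_image (fun x _ y _ h => sub_left_injective h)]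
    refine Finset.prod_congr rfl fun b _ => ?_
    rw [sub_comp, X_comp, C_comp, C_sub]
    ring
  have hroot : ∀ a ∈ s, f.eval a = 0 := by
    intro a ha
    rw [hf, eval_prod]
    exact Finset.prod_eq_zero ha (by simp)
  -- the universal identity, with the second variable in the coefficients
  set F : L[X][X] := f.map C with hF
  have hFmon : F.Monic := hmon.map C
  have hFdeg : F.natDegree = s.card := by rw [hF, natDegree_map_eq_of_injective C_injective, hdeg]
  set P : L[X][X] := taylor (X : L[X]) F - F - C f with hP
  have hP0 : P = 0 := by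
    refine eq_zero_of_natDegree_lt_card_of_eval_eq_zero' P (s.image C) (fun c hc => ?_) ?_
    · obtain ⟨a, ha, rfl⟩ := Finset.mem_image.mp hc
      rw [hP, eval_sub, eval_sub, eval_C, taylor_eval, hF, eval_map, eval_map, eval₂_hom, hroot a ha,
        map_zero, sub_zero, add_comm]
      show f.comp (X + C a) - f = 0
      rw [hshift a ha, sub_self]
    · rw [Finset.card_image_of_injective _ C_injective]
      have hpos : 0 < s.card := Finset.card_pos.mpr ⟨0, h0⟩
      have hT : (taylor (X : L[X]) F).natDegree = s.card := by rw [natDegree_taylor, hFdeg]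
      have hTm : (taylor (X : L[X]) F).leadingCoeff = F.leadingCoeff := leadingCoeff_taylor _ _
      have hd : (taylor (X : L[X]) F - F).natDegree < s.card := by
        rcases eq_or_ne (taylor (X : L[X]) F - F) 0 with h | h
        · rw [h, natDegree_zero]; exact hpos
        · have hT0 : taylor (X : L[X]) F ≠ 0 := by
            intro hh; rw [hh, natDegree_zero] at hT; omega
          rw [natDegree_lt_iff_degree_lt h]
          refine (degree_sub_lt_left ?_ hT0 hTm).trans_le ?_
          · rw [degree_eq_natDegree hT0, degree_eq_natDegree hFmon.ne_zero, hT, hFdeg]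
          · rw [degree_eq_natDegree hT0, hT]
      refine lt_of_le_of_lt (natDegree_sub_le _ _) (max_lt hd ?_)
      rwa [natDegree_C]
  have key := congrArg (eval₂ (aeval y : L[X] →ₐ[L] R).toRingHom x) hP0
  rw [hP, eval₂_sub, eval₂_sub, eval₂_zero, eval₂_C, taylor_apply, eval₂_comp, eval₂_add, eval₂_X,
    eval₂_C] at key
  have hC : (aeval y : L[X] →ₐ[L] R).toRingHom.comp C = algebraMap L R :=
    RingHom.ext fun a => aeval_C y a
  have hX : (aeval y : L[X] →ₐ[L] R).toRingHom X = y := aeval_X y
  rw [hF, eval₂_map, eval₂_map, hX, hC, ← aeval_def, ← aeval_def] at key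
  exact sub_eq_zero.mp (by linear_combination key)

end Groth.Agent.BddFin96
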