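import Mathlib
import Groth.Agent.Csa25.Centralizer

/-!
Torsion modulo the centre in division algebras.
-/

universe u v

open Polynomial Module

set_option autoImplicit false

namespace Groth.Agent.BddFin96

variable {K : Type u} [Field K] {A : Type v} [Ring A] [Algebra K A]

/-- An irreducible factor of `X^m - c` over a field with all roots of unity is `X^r - a`. -/
theorem irreducible_factor_eq (hK : ∀ n : ℕ, 0 < n → (X ^ n - 1 : K[X]).Splits) {g : K[X]}
    (hg : g.Monic) (hirr : Irreducible g) {m : ℕ} (hm : 0 < m) {c : K} (hdvd : g ∣ X ^ m - C c) :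
    ∃ a : K, g = X ^ g.natDegree - C a := by
  let Ω := AlgebraicClosure K
  obtain ⟨α, hα⟩ := IsAlgClosed.exists_aeval_eq_zero Ω g
    hirr.degree_pos.ne'
  · rcases eq_or_ne c 0 with rfl | hc
    · rw [map_zero, sub_zero] at hdvd
      obtain ⟨i, -, hi⟩ := (dvd_prime_pow prime_X _).mp hdvd
      have hgi := eq_of_monic_of_associated hg (monic_X_pow i) hi
      exact ⟨0, by rw [map_zero, sub_zero, hgi, natDegree_X_pow]⟩
    have hroot : ∀ β ∈ (g.map (algebraMap K Ω)).roots, β ^ m = algebraMap K Ω c := by
      intro β hβ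
      rw [mem_roots (hg.map _).ne_zero, IsRoot, eval_map_algebraMap] at hβ
      obtain ⟨k, hk⟩ := hdvd
      have := congrArg (aeval β) hk
      rw [map_mul, hβ, zero_mul, map_sub, map_pow, aeval_X, aeval_C, sub_eq_zero] at this
      exact this
    have hα' : α ^ m = algebraMap K Ω c :=
      hroot α (by rw [mem_roots (hg.map _).ne_zero, IsRoot, eval_map_algebraMap, hα])
    have hα0 : α ≠ 0 := by
      rintro rfl
      rw [zero_pow hm.ne'] at hα'
      exact hc ((algebraMap K Ω).injective (by rw [← hα', map_zero]))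
    have hζ : ∀ β ∈ (g.map (algebraMap K Ω)).roots, ∃ ζ : K, β = algebraMap K Ω ζ * α := by
      intro β hβ
      have h1 : (β / α) ^ m = 1 := by
        rw [div_pow, hroot β hβ, hα', div_self (fun h => hc ((algebraMap K Ω).injective (by rw [h, map_zero])))]
      obtain ⟨ζ, hζ⟩ := (hK m hm).mem_range_of_isRoot (monic_X_pow_sub_C (1 : K) hm.ne').ne_zero
        (i := algebraMap K Ω) (x := β / α) (by simp [IsRoot, h1])
      exact ⟨ζ, by rw [hζ, div_mul_cancel₀ _ hα0]⟩
    have hprodroots : ∀ s : Multiset Ω, (∀ β ∈ s, ∃ ζ : K, β = algebraMap K Ω ζ * α) →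
        ∃ ζ : K, s.prod = algebraMap K Ω ζ * α ^ Multiset.card s := by
      intro s
      induction s using Multiset.induction_on with
      | empty => intro _; exact ⟨1, by simp⟩
      | cons b s ih =>
        intro h
        obtain ⟨z, hz⟩ := h b (Multiset.mem_cons_self _ _)
        obtain ⟨w, hw⟩ := ih fun β hβ => h β (Multiset.mem_cons_of_mem hβ)
        exact ⟨z * w, by rw [Multiset.prod_cons, hz, hw, Multiset.card_cons, map_mul, pow_succ]; ring⟩
    obtain ⟨z, hz⟩ := hprodroots _ hζ
    have hsp : (g.map (algebraMap K Ω)).Splits := IsAlgClosed.splits _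
    have hcoeff := hsp.coeff_zero_eq_prod_roots_of_monic (hg.map _)
    rw [coeff_map, hz, natDegree_map, hsp.natDegree_eq_card_roots.symm.trans (natDegree_map _)] at hcoeff
    have hz0 : z ≠ 0 := by
      intro h
      rw [h, map_zero, zero_mul, mul_zero] at hcoeff
      have hc0 : g.coeff 0 = 0 := (algebraMap K Ω).injective (by rw [hcoeff, map_zero])
      have hX : (X : K[X]) ∣ g := X_dvd_iff.mpr hc0
      have := eq_of_monic_of_associated monic_X hg
        (irreducible_X.associated_of_dvd hirr hX)
      rw [← this, aeval_X] at hα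
      exact hα0 hα
    refine ⟨(-1) ^ g.natDegree * g.coeff 0 / z, ?_⟩
    set a := (-1) ^ g.natDegree * g.coeff 0 / z
    have hαr : α ^ g.natDegree = algebraMap K Ω a := by
      rw [map_div₀, map_mul, map_pow, map_neg, map_one, hcoeff, ← mul_assoc, ← mul_pow, neg_one_mul,
        neg_neg, one_pow, one_mul, mul_div_cancel_left₀ _
          (fun h => hz0 ((algebraMap K Ω).injective (by rw [h, map_zero])))]
    have hdiv : g ∣ X ^ g.natDegree - C a := by
      rw [minpoly.eq_of_irreducible_of_monic hirr hα hg]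
      exact minpoly.dvd K α (by rw [← minpoly.eq_of_irreducible_of_monic hirr hα hg, map_sub, map_pow,
        aeval_X, aeval_C, hαr, sub_self])
    exact (eq_of_monic_of_dvd_of_natDegree_le hg
      (monic_X_pow_sub_C a hirr.natDegree_pos.ne') hdiv (by rw [natDegree_X_pow_sub_C])).symm

open scoped TensorProduct
open MulOpposite

section Degree

variable [Algebra.IsCentral K A] [IsSimpleRing A] [FiniteDimensional K A]

/-- The dimension of an `L ⊗ A`-module is divisible by `[L : K] * n`. -/
theorem dvd_finrank_of_field {n : ℕ} (hn : finrank K A = n ^ 2) (L : Type u) [Field L] [Algebra K L]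
    [FiniteDimensional K L] (N : Type v) [AddCommGroup N] [Module K N] [Module Aᵐᵒᵖ N]
    [IsScalarTower K Aᵐᵒᵖ N] [Module L N] [IsScalarTower K L N] [SMulCommClass L Aᵐᵒᵖ N]
    [FiniteDimensional K N] : finrank K L * n ∣ finrank K N := by
  have : IsSimpleRing Aᵐᵒᵖ := inferInstance
  have : IsSimpleRing (Aᵐᵒᵖ ⊗[K] L) := Csa25.isSimpleRing_tensor
  have : IsSimpleRing (L ⊗[K] Aᵐᵒᵖ) :=
    .of_ringEquiv (Algebra.TensorProduct.comm K Aᵐᵒᵖ L).toRingEquiv this
  let : Module (L ⊗[K] Aᵐᵒᵖ) N := TensorProduct.Algebra.module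
  have : IsScalarTower L (L ⊗[K] Aᵐᵒᵖ) N := ⟨fun l t m => by
    induction t using TensorProduct.induction_on with
    | zero =>
      rw [smul_zero]
      exact (zero_smul (L ⊗[K] Aᵐᵒᵖ) m).trans
        ((congrArg (l • ·) (zero_smul (L ⊗[K] Aᵐᵒᵖ) m)).trans (smul_zero l)).symm
    | tmul a b =>
      rw [TensorProduct.smul_tmul', TensorProduct.Algebra.smul_def, TensorProduct.Algebra.smul_def,
        smul_eq_mul, mul_smul]
    | add x y hx hy => rw [smul_add, add_smul, add_smul, smul_add, hx, hy]⟩
  have : FiniteDimensional L N := Module.Finite.of_restrictScalars_finite K L N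
  have hR : finrank L (L ⊗[K] Aᵐᵒᵖ) = n ^ 2 := by
    rw [Module.finrank_baseChange, ← (opLinearEquiv K : A ≃ₗ[K] Aᵐᵒᵖ).finrank_eq, hn]
  have h := Csa25.finrank_mul_finrank_end (k := L) (L ⊗[K] Aᵐᵒᵖ) N
  rw [hR, ← sq] at h
  have hd : n ∣ finrank L N := (Nat.pow_dvd_pow_iff two_ne_zero).mp (Dvd.intro _ h)
  rw [← Module.finrank_mul_finrank K L N]
  exact Nat.mul_dvd_mul_left _ hd

omit [Algebra.IsCentral K A] [IsSimpleRing A] [FiniteDimensional K A] in
theorem aeval_intertwine {V W : Type v} [AddCommGroup V] [Module K V] [AddCommGroup W] [Module K W]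
    (ι : V →ₗ[K] W) (S : Module.End K V) (T : Module.End K W) (h : ∀ v, ι (S v) = T (ι v)) (p : K[X]) :
    ∀ v, ι (aeval S p v) = aeval T p (ι v) := by
  induction p using Polynomial.induction_on' with
  | add p q hp hq => intro v; simp [map_add, hp, hq]
  | monomial k c =>
    intro v
    rw [aeval_monomial, aeval_monomial, Module.End.mul_apply, Module.End.mul_apply,
      Module.algebraMap_end_apply, Module.algebraMap_end_apply, map_smul]
    congr 1
    induction k generalizing v with
    | zero => rfl
    | succ k ihk => rw [pow_succ, pow_succ, Module.End.mul_apply, Module.End.mul_apply, ihk, h]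

theorem dvd_finrank_of_killed {n : ℕ} (hn : finrank K A = n ^ 2) (r : ℕ) :
    ∀ (gs : List K[X]), (∀ g ∈ gs, Irreducible g ∧ g.natDegree = r) →
    ∀ (N : Type v) [AddCommGroup N] [Module K N] [Module Aᵐᵒᵖ N] [IsScalarTower K Aᵐᵒᵖ N]
      [FiniteDimensional K N] (T : N →ₗ[Aᵐᵒᵖ] N),
      aeval (T.restrictScalars K : Module.End K N) gs.prod = 0 → r * n ∣ finrank K N := by
  intro gs
  induction gs with
  | nil =>
    intro _ N _ _ _ _ _ T h
    rw [List.prod_nil, map_one] at h
    have : Subsingleton N := ⟨fun a b => by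
      have ha := LinearMap.congr_fun h a
      have hb := LinearMap.congr_fun h b
      simp at ha hb
      rw [ha, hb]⟩
    rw [Module.finrank_zero_of_subsingleton]
    exact dvd_zero _
  | cons g gs ih =>
    intro hgs N _ _ _ _ _ T h
    set T' : Module.End K N := T.restrictScalars K with hT
    have hcomm : ∀ (p : K[X]) (a : Aᵐᵒᵖ) (m : N), aeval T' p (a • m) = a • aeval T' p m := by
      intro p
      induction p using Polynomial.induction_on with
      | C c => intro a m; rw [aeval_C, Module.algebraMap_end_apply, Module.algebraMap_end_apply, smul_comm]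
      | add p q hp hq => intro a m; rw [map_add, LinearMap.add_apply, LinearMap.add_apply, hp, hq, smul_add]
      | monomial k c ihk =>
        intro a m
        rw [pow_succ, ← mul_assoc, map_mul, aeval_X, Module.End.mul_apply, Module.End.mul_apply]
        show aeval T' _ (T (a • m)) = _
        rw [T.map_smul, ihk]
        rfl
    let G : N →ₗ[Aᵐᵒᵖ] N :=
      { toFun := aeval T' g
        map_add' := map_add _
        map_smul' := hcomm g }
    have hmem : ∀ (p : K[X]) (m : N), m ∈ LinearMap.range G → aeval T' p m ∈ LinearMap.range G := by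
      rintro p _ ⟨y, rfl⟩
      refine ⟨aeval T' p y, ?_⟩
      show (aeval T' g * aeval T' p) y = (aeval T' p * aeval T' g) y
      rw [← map_mul, ← map_mul, mul_comm]
    obtain ⟨hirr, hdeg⟩ := hgs g List.mem_cons_self
    -- the kernel is a module over the field `K[X]/g`
    have hkmem : ∀ (p : K[X]) (m : N), m ∈ LinearMap.ker G → aeval T' p m ∈ LinearMap.ker G := by
      intro p m hm
      show (aeval T' g * aeval T' p) m = 0
      rw [← map_mul, mul_comm, map_mul, Module.End.mul_apply, show aeval T' g m = 0 from hm, map_zero]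
    have hker : r * n ∣ finrank K (LinearMap.ker G) := by
      let _ : Fact (Irreducible g) := ⟨hirr⟩
      let act : K[X] →ₐ[K] Module.End K (LinearMap.ker G) := aeval
        ({ toFun := fun m => ⟨T' m.1, by simpa using hkmem X m.1 m.2⟩
           map_add' := fun a b => Subtype.ext (map_add T' _ _)
           map_smul' := fun a b => Subtype.ext (map_smul T' _ _) })
      have hact : ∀ (p : K[X]) (m : LinearMap.ker G), (act p m : N) = aeval T' p m :=
        fun p => aeval_intertwine ((LinearMap.ker G).subtype.restrictScalars K) _ T'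
          (fun v => rfl) p
      have hkill : ∀ p ∈ Ideal.span ({g} : Set K[X]), act p = 0 := by
        intro p hp
        obtain ⟨q, rfl⟩ := Ideal.mem_span_singleton'.mp hp
        refine LinearMap.ext fun m => Subtype.ext ?_
        rw [hact, map_mul, Module.End.mul_apply]
        show aeval T' q (G m.1) = 0
        rw [show G m.1 = 0 from m.2, map_zero]
      let lift : AdjoinRoot g →ₐ[K] Module.End K (LinearMap.ker G) :=
        Ideal.Quotient.liftₐ (Ideal.span {g}) act hkill
      let _ : Module (AdjoinRoot g) (LinearMap.ker G) := Module.compHom _ lift.toRingHom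
      have : IsScalarTower K (AdjoinRoot g) (LinearMap.ker G) := ⟨fun c l m => by
        show lift (c • l) m = c • lift l m
        rw [map_smul]; rfl⟩
      have : SMulCommClass (AdjoinRoot g) Aᵐᵒᵖ (LinearMap.ker G) := ⟨fun l a m => by
        obtain ⟨p, rfl⟩ := AdjoinRoot.mk_surjective l
        apply Subtype.ext
        show (act p (a • m) : N) = a • (act p m : N)
        rw [hact, hact]
        exact hcomm p a m.1⟩
      have : FiniteDimensional K (AdjoinRoot g) := (AdjoinRoot.powerBasis hirr.ne_zero).finite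
      have : FiniteDimensional K (LinearMap.ker G) :=
        Module.Finite.of_injective ((LinearMap.ker G).subtype.restrictScalars K) Subtype.val_injective
      have h1 := dvd_finrank_of_field hn (AdjoinRoot g) (LinearMap.ker G)
      rwa [(AdjoinRoot.powerBasis hirr.ne_zero).finrank, AdjoinRoot.powerBasis_dim, hdeg] at h1
    have hrange : r * n ∣ finrank K (LinearMap.range G) := by
      have : FiniteDimensional K (LinearMap.range G) :=
        Module.Finite.of_injective ((LinearMap.range G).subtype.restrictScalars K) Subtype.val_injective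
      refine ih (fun q hq => hgs q (List.mem_cons_of_mem _ hq)) (LinearMap.range G)
        { toFun := fun m => ⟨T m.1, by simpa [T'] using hmem X m.1 m.2⟩
          map_add' := fun a b => Subtype.ext (map_add T _ _)
          map_smul' := fun a b => Subtype.ext (T.map_smul _ _) } ?_
      refine LinearMap.ext fun m => Subtype.ext ?_
      obtain ⟨y, hy⟩ := m.2
      have key : ∀ (p : K[X]) (m : LinearMap.range G) S,
          (∀ z : LinearMap.range G, ((S : Module.End K (LinearMap.range G)) z : N) = T' z) →
          (aeval S p m : N) = aeval T' p m := fun p m S hS =>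
        aeval_intertwine ((LinearMap.range G).subtype.restrictScalars K) S T' hS p m
      rw [key gs.prod m _ (fun _ => rfl), ← hy]
      show (aeval T' gs.prod * aeval T' g) y = 0
      rw [← map_mul, mul_comm, ← List.prod_cons, h]
      rfl
    have := LinearMap.finrank_range_add_finrank_ker (G.restrictScalars K)
    rw [← this]
    exact dvd_add hrange hker

theorem degree_eq (hK : ∀ n : ℕ, 0 < n → (X ^ n - 1 : K[X]).Splits) {g g' : K[X]}
    (hg : Irreducible g) (hg' : Irreducible g') {r s : ℕ} {a b : K} (hga : g = X ^ r - C a)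
    (hgb : g' = X ^ s - C b) {m : ℕ} (hm : 0 < m) {c : K} (hc : c ≠ 0) (hd : g ∣ X ^ m - C c)
    (hd' : g' ∣ X ^ m - C c) : s ≤ r := by
  let Ω := AlgebraicClosure K
  obtain ⟨α, hα⟩ := IsAlgClosed.exists_aeval_eq_zero Ω g hg.degree_pos.ne'
  obtain ⟨β, hβ⟩ := IsAlgClosed.exists_aeval_eq_zero Ω g' hg'.degree_pos.ne'
  have hpow : ∀ {h : K[X]} {x : Ω}, h ∣ X ^ m - C c → aeval x h = 0 → x ^ m = algebraMap K Ω c := by
    intro h x ⟨q, hq⟩ hx
    have := congrArg (aeval x) hq
    rw [map_mul, hx, zero_mul, map_sub, map_pow, aeval_X, aeval_C, sub_eq_zero] at this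
    exact this
  have hr : 0 < r := by
    have := hg.natDegree_pos
    rwa [hga, natDegree_X_pow_sub_C] at this
  have hs : 0 < s := by
    have := hg'.natDegree_pos
    rwa [hgb, natDegree_X_pow_sub_C] at this
  have hc' : algebraMap K Ω c ≠ 0 := fun h => hc ((algebraMap K Ω).injective (by rw [h, map_zero]))
  have hα0 : α ≠ 0 := fun h => hc' (by rw [← hpow hd hα, h, zero_pow hm.ne'])
  obtain ⟨z, hz⟩ := (hK m hm).mem_range_of_isRoot (monic_X_pow_sub_C (1 : K) hm.ne').ne_zero
    (i := algebraMap K Ω) (x := β / α) (by simp [IsRoot, div_pow, hpow hd hα, hpow hd' hβ, hc'])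
  have hαr : α ^ r = algebraMap K Ω a := by
    rw [hga, map_sub, map_pow, aeval_X, aeval_C, sub_eq_zero] at hα; exact hα
  have hβr : aeval β (X ^ r - C (z ^ r * a)) = 0 := by
    rw [map_sub, map_pow, aeval_X, aeval_C, sub_eq_zero, map_mul, map_pow, ← hαr, ← mul_pow, hz,
      div_mul_cancel₀ _ hα0]
  have hmin := minpoly.eq_of_irreducible_of_monic hg' hβ (hgb ▸ monic_X_pow_sub_C b hs.ne')
  have := natDegree_le_of_dvd (hmin ▸ minpoly.dvd K β hβr) (monic_X_pow_sub_C _ hr.ne').ne_zero
  rwa [hgb, natDegree_X_pow_sub_C, natDegree_X_pow_sub_C] at this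

/-- Elements torsion modulo scalars in a central simple algebra. -/
theorem minpoly_eq_prod (hK : ∀ n : ℕ, 0 < n → (X ^ n - 1 : K[X]).Splits) (n : ℕ)
    (hn : finrank K A = n ^ 2) (x : A) (hx : IsUnit x)
    (hxm : ∃ m : ℕ, 0 < m ∧ x ^ m ∈ (algebraMap K A).range) :
    ∃ r : ℕ, 0 < r ∧ r ∣ n ∧ ∃ s : Multiset K, minpoly K x = (s.map fun a : K => X ^ r - C a).prod := by
  classical
  have : Nontrivial A := inferInstance
  obtain ⟨m, hm, c, hc⟩ := hxm
  have hc0 : c ≠ 0 := by
    rintro rfl
    rw [map_zero] at hc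
    exact (hx.pow m).ne_zero hc.symm
  have hmon : (minpoly K x).Monic := minpoly.monic (IsIntegral.of_finite K x)
  have hdiv : minpoly K x ∣ X ^ m - C c :=
    minpoly.dvd K x (by rw [map_sub, map_pow, aeval_X, aeval_C, hc, sub_self])
  set fs := UniqueFactorizationMonoid.normalizedFactors (minpoly K x) with hfs
  have hfac : ∀ g ∈ fs, Irreducible g ∧ g.Monic ∧ g ∣ X ^ m - C c := fun g hg =>
    ⟨UniqueFactorizationMonoid.irreducible_of_normalized_factor g hg,
      UniqueFactorizationMonoid.normalize_normalized_factor g hg ▸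
        monic_normalize (UniqueFactorizationMonoid.irreducible_of_normalized_factor g hg).ne_zero,
      (UniqueFactorizationMonoid.dvd_of_mem_normalizedFactors hg).trans hdiv⟩
  have hne : minpoly K x ≠ 1 := fun h => minpoly.not_isUnit K x (h ▸ isUnit_one)
  have hprod : fs.prod = minpoly K x := by
    refine eq_of_monic_of_associated ?_ hmon
      (UniqueFactorizationMonoid.prod_normalizedFactors hmon.ne_zero)
    simpa using monic_multiset_prod_of_monic fs id fun g hg => (hfac g hg).2.1
  obtain ⟨g₀, hg₀⟩ : ∃ g, g ∈ fs := Multiset.exists_mem_of_ne_zero fun h => hne (by rw [← hprod, h, Multiset.prod_zero])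
  set r := g₀.natDegree with hr
  have hall : ∀ g ∈ fs, ∃ a : K, g = X ^ r - C a := by
    intro g hg
    obtain ⟨a, ha⟩ := irreducible_factor_eq hK (hfac g hg).2.1 (hfac g hg).1 hm (hfac g hg).2.2
    obtain ⟨b, hb⟩ := irreducible_factor_eq hK (hfac g₀ hg₀).2.1 (hfac g₀ hg₀).1 hm (hfac g₀ hg₀).2.2
    have h1 := degree_eq hK (hfac g hg).1 (hfac g₀ hg₀).1 ha hb hm hc0 (hfac g hg).2.2 (hfac g₀ hg₀).2.2
    have h2 := degree_eq hK (hfac g₀ hg₀).1 (hfac g hg).1 hb ha hm hc0 (hfac g₀ hg₀).2.2 (hfac g hg).2.2
    exact ⟨a, by rw [ha, le_antisymm h2 h1]⟩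
  have hrpos : 0 < r := (hfac g₀ hg₀).1.natDegree_pos
  refine ⟨r, hrpos, ?_, ?_⟩
  · let T : A →ₗ[Aᵐᵒᵖ] A :=
      { toFun := fun y => x * y
        map_add' := mul_add x
        map_smul' := fun a y => (mul_assoc x y a.unop).symm }
    have hT : T.restrictScalars K = Algebra.lmul K A x := rfl
    have h := dvd_finrank_of_killed hn r fs.toList
      (fun g hg => ⟨(hfac g (Multiset.mem_toList.mp hg)).1, by
        obtain ⟨a, ha⟩ := hall g (Multiset.mem_toList.mp hg)
        rw [ha, natDegree_X_pow_sub_C]⟩) A T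
      (by rw [Multiset.prod_toList, hprod, hT, aeval_algHom_apply, minpoly.aeval, map_zero])
    rw [hn, sq] at h
    exact Nat.dvd_of_mul_dvd_mul_right (Nat.pos_of_ne_zero fun h0 => by
      rw [h0] at hn; exact (Module.finrank_pos (R := K) (M := A)).ne' (by simpa using hn)) h
  · choose f hf using hall
    refine ⟨fs.attach.map fun g => f g.1 g.2, ?_⟩
    rw [Multiset.map_map]
    conv_lhs => rw [← hprod, ← Multiset.attach_map_val fs]
    exact congrArg Multiset.prod (Multiset.map_congr rfl fun g _ => hf g.1 g.2)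

end Degree

/-- In a division algebra the `n`-th power of an element torsion modulo scalars is scalar. -/
theorem pow_degree_mem (hK : ∀ n : ℕ, 0 < n → (X ^ n - 1 : K[X]).Splits) {D : Type v} [DivisionRing D]
    [Algebra K D] [Algebra.IsCentral K D] [FiniteDimensional K D] (n : ℕ) (hn : finrank K D = n ^ 2)
    (x : D) (hxm : ∃ m : ℕ, 0 < m ∧ x ^ m ∈ (algebraMap K D).range) :
    x ^ n ∈ (algebraMap K D).range := by
  have hn0 : n ≠ 0 := by
    rintro rfl
    exact (Module.finrank_pos (R := K) (M := D)).ne' (by simpa using hn)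
  rcases eq_or_ne x 0 with rfl | hx
  · exact ⟨0, by rw [map_zero, zero_pow hn0]⟩
  obtain ⟨r, hr, ⟨t, rfl⟩, s, hs⟩ := minpoly_eq_prod hK n hn x (IsUnit.mk0 x hx) hxm
  have hroot := minpoly.aeval K x
  rw [hs] at hroot
  clear hs
  induction s using Multiset.induction_on with
  | empty => simp at hroot
  | cons a s ih =>
    rw [Multiset.map_cons, Multiset.prod_cons, map_mul, mul_eq_zero] at hroot
    rcases hroot with h | h
    · rw [map_sub, map_pow, aeval_X, aeval_C, sub_eq_zero] at h
      exact ⟨a ^ t, by rw [map_pow, ← h, pow_mul]⟩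
    · exact ih h

end Groth.Agent.BddFin96
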