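import Mathlib

/-!
Finite subgroups of `GL₂(ℤ)` all of whose elements fix a non-zero vector.
-/

open Matrix

set_option autoImplicit false

namespace Groth.Agent.BddFin96

theorem sq_eq (M : Matrix (Fin 2) (Fin 2) ℤ) : M * M = M.trace • M - M.det • (1 : Matrix (Fin 2) (Fin 2) ℤ) := by
  rw [Matrix.det_fin_two, Matrix.trace_fin_two]
  ext i j
  fin_cases i <;> fin_cases j <;>
    simp only [Matrix.mul_apply, Fin.sum_univ_two, Matrix.sub_apply, Matrix.smul_apply, Matrix.one_apply,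
      smul_eq_mul] <;> norm_num <;> ring

/-- Coefficient sequence of the powers of a matrix killed by `X² - tX + δ`. -/
def cs (t δ : ℤ) : ℕ → ℤ × ℤ
  | 0 => (0, 1)
  | k + 1 => (t * (cs t δ k).1 + (cs t δ k).2, -δ * (cs t δ k).1)

theorem pow_eq (M : Matrix (Fin 2) (Fin 2) ℤ) (k : ℕ) :
    M ^ k = (cs M.trace M.det k).1 • M + (cs M.trace M.det k).2 • (1 : Matrix (Fin 2) (Fin 2) ℤ) := by
  induction k with
  | zero => simp [cs]
  | succ k ih =>
    rw [pow_succ, ih, add_mul, smul_mul_assoc, smul_mul_assoc, one_mul, sq_eq]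
    simp only [cs, smul_sub, smul_smul, add_smul]
    rw [show -M.det * (cs M.trace M.det k).1 = -((cs M.trace M.det k).1 * M.det) by ring,
      mul_comm M.trace, neg_smul]
    abel

theorem cs_strictMono (t δ : ℤ) (ht : 3 ≤ |t|) (hδ : |δ| = 1) (k : ℕ) :
    |(cs t δ k).2| ≤ |(cs t δ (k + 1)).1| ∧ |(cs t δ (k + 1)).1| > |(cs t δ k).1| := by
  induction k with
  | zero => simp [cs]
  | succ k ih =>
    have h1 : (cs t δ (k + 1 + 1)).1 = t * (cs t δ (k + 1)).1 + (cs t δ (k + 1)).2 := rfl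
    have h2 : |(cs t δ (k + 1)).2| = |(cs t δ k).1| := by
      show |(-δ) * (cs t δ k).1| = _
      rw [abs_mul, abs_neg, hδ, one_mul]
    have h3 : |t * (cs t δ (k + 1)).1| ≥ 3 * |(cs t δ (k + 1)).1| := by
      rw [abs_mul]; exact mul_le_mul_of_nonneg_right ht (abs_nonneg _)
    have h4 := abs_sub_abs_le_abs_sub (t * (cs t δ (k + 1)).1) (-(cs t δ (k + 1)).2)
    rw [sub_neg_eq_add, ← h1, abs_neg] at h4
    have := abs_nonneg (cs t δ k).1
    refine ⟨?_, ?_⟩ <;> omega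

theorem det_sq (M : Matrix (Fin 2) (Fin 2) ℤ) {m : ℕ} (hm : 0 < m) (h : M ^ m = 1) : |M.det| = 1 := by
  have h1 : |M.det| ^ m = 1 := by rw [← abs_pow, ← Matrix.det_pow, h, Matrix.det_one, abs_one]
  have h2 : IsUnit |M.det| := IsUnit.of_pow_eq_one h1 hm.ne'
  rcases Int.isUnit_iff.mp h2 with h3 | h3
  · exact h3
  · have := abs_nonneg M.det
    omega

theorem abs_trace_le (M : Matrix (Fin 2) (Fin 2) ℤ) {m : ℕ} (hm : 0 < m) (h : M ^ m = 1) :
    |M.trace| ≤ 2 := by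
  by_contra hc
  have ht : 3 ≤ |M.trace| := by omega
  obtain ⟨k, rfl⟩ := Nat.exists_eq_succ_of_ne_zero hm.ne'
  have hpos := (cs_strictMono M.trace M.det ht (det_sq M hm h) k).2
  set a := (cs M.trace M.det (k + 1)).1 with ha
  set b := (cs M.trace M.det (k + 1)).2
  have hne : a ≠ 0 := by
    intro h0
    rw [h0, abs_zero] at hpos
    exact absurd hpos (not_lt.mpr (abs_nonneg _))
  rw [pow_eq] at h
  have e01 := congrFun (congrFun h 0) 1
  have e10 := congrFun (congrFun h 1) 0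
  simp only [Matrix.add_apply, Matrix.smul_apply, Matrix.one_apply, smul_eq_mul] at e01 e10
  norm_num at e01 e10
  have z01 : M 0 1 = 0 := e01.resolve_left hne
  have z10 : M 1 0 = 0 := e10.resolve_left hne
  have hd := det_sq M hm (by rw [pow_eq]; exact h)
  rw [Matrix.det_fin_two, z01, z10] at hd
  simp only [mul_zero, sub_zero, abs_mul] at hd
  have u0 : |M 0 0| = 1 := Int.eq_one_of_mul_eq_one_right (abs_nonneg _) hd
  have u1 : |M 1 1| = 1 := by rw [u0, one_mul] at hd; exact hd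
  rw [Matrix.trace_fin_two] at ht
  have := abs_add_le (M 0 0) (M 1 1)
  omega

theorem det_sub_one (M : Matrix (Fin 2) (Fin 2) ℤ) : (M - 1).det = M.det - M.trace + 1 := by
  rw [Matrix.det_fin_two, Matrix.det_fin_two, Matrix.trace_fin_two]
  simp [Matrix.sub_apply]
  ring

theorem exists_fixed_iff (M : Matrix (Fin 2) (Fin 2) ℤ) :
    (∃ v : Fin 2 → ℤ, v ≠ 0 ∧ M *ᵥ v = v) ↔ (M - 1).det = 0 := by
  rw [← Matrix.exists_mulVec_eq_zero_iff]
  constructor <;> rintro ⟨v, hv, h⟩ <;> refine ⟨v, hv, ?_⟩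
  · rw [Matrix.sub_mulVec, Matrix.one_mulVec, h, sub_self]
  · rwa [Matrix.sub_mulVec, Matrix.one_mulVec, sub_eq_zero] at h

theorem eq_one_of_det_eq_one (M : Matrix (Fin 2) (Fin 2) ℤ) {m : ℕ} (hm : 0 < m) (h : M ^ m = 1)
    (hd : M.det = 1) (hfix : (M - 1).det = 0) : M = 1 := by
  rw [det_sub_one, hd] at hfix
  have ht : M.trace = 2 := by omega
  have hN : (M - 1) * (M - 1) = 0 := by
    rw [sub_mul, mul_sub, mul_one, one_mul, sq_eq, hd, ht, one_smul, two_smul]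
    abel
  have hp : ∀ k : ℕ, M ^ k = 1 + (k : ℤ) • (M - 1) := by
    intro k
    induction k with
    | zero => simp
    | succ k ih =>
      conv_lhs => rw [pow_succ, ih, show M = 1 + (M - 1) by abel]
      rw [mul_add, mul_one, add_mul, one_mul, smul_mul_assoc, show (1 + (M - 1) - 1) = M - 1 by abel,
        hN, smul_zero, add_zero, Nat.cast_succ, add_smul, one_smul]
      abel
  have := hp m
  rw [h, left_eq_add] at this
  rcases smul_eq_zero.mp this with h' | h'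
  · exact absurd (Int.natCast_eq_zero.mp h') hm.ne'
  · exact sub_eq_zero.mp h'

theorem exists_common_fixed (Γ : Subgroup (Matrix.GeneralLinearGroup (Fin 2) ℤ)) [Finite Γ]
    (h : ∀ γ ∈ Γ, ((γ : Matrix (Fin 2) (Fin 2) ℤ) - 1).det = 0) :
    ∃ v : Fin 2 → ℤ, v ≠ 0 ∧ ∀ γ ∈ Γ, (γ : Matrix (Fin 2) (Fin 2) ℤ) *ᵥ v = v := by
  have hord : ∀ γ ∈ Γ, ∃ m : ℕ, 0 < m ∧ (γ : Matrix (Fin 2) (Fin 2) ℤ) ^ m = 1 := by
    intro γ hγ
    obtain ⟨m, hm, he⟩ := isOfFinOrder_iff_pow_eq_one.mp (isOfFinOrder_of_finite (⟨γ, hγ⟩ : Γ))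
    refine ⟨m, hm, ?_⟩
    rw [← Units.val_pow_eq_pow_val, show γ ^ m = 1 from congrArg Subtype.val he, Units.val_one]
  have key : ∀ γ ∈ Γ, (γ : Matrix (Fin 2) (Fin 2) ℤ).det = 1 → γ = 1 := by
    intro γ hγ hd
    obtain ⟨m, hm, he⟩ := hord γ hγ
    exact Units.ext (eq_one_of_det_eq_one _ hm he hd (h γ hγ))
  by_cases htriv : ∀ γ ∈ Γ, γ = 1
  · refine ⟨![1, 0], by simp, fun γ hγ => ?_⟩
    rw [htriv γ hγ, Units.val_one, Matrix.one_mulVec]
  push Not at htriv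
  obtain ⟨γ₀, hγ₀, hne⟩ := htriv
  obtain ⟨v, hv, hfv⟩ := (exists_fixed_iff _).mpr (h γ₀ hγ₀)
  refine ⟨v, hv, fun γ hγ => ?_⟩
  by_cases h1 : γ = 1
  · rw [h1, Units.val_one, Matrix.one_mulVec]
  · have hneg : ∀ δ ∈ Γ, δ ≠ 1 → (δ : Matrix (Fin 2) (Fin 2) ℤ).det = -1 := by
      intro δ hδ hδ1
      obtain ⟨m, hm, he⟩ := hord δ hδ
      rcases abs_eq (zero_le_one' ℤ) |>.mp (det_sq _ hm he) with h' | h'
      · exact absurd (key δ hδ h') hδ1
      · exact h'
    have : γ₀⁻¹ * γ = 1 := key _ (Γ.mul_mem (Γ.inv_mem hγ₀) hγ) (by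
      have hinv : (γ₀⁻¹ : Matrix.GeneralLinearGroup (Fin 2) ℤ).val.det = -1 :=
        hneg _ (Γ.inv_mem hγ₀) (by simpa using hne)
      rw [Units.val_mul, Matrix.det_mul, hinv, hneg γ hγ h1]
      norm_num)
    rw [inv_mul_eq_one] at this
    rw [← this]
    exact hfv

theorem det_sub_one_eq_zero_of_mod (M : Matrix (Fin 2) (Fin 2) ℤ) {m : ℕ} (hm : 0 < m) (h : M ^ m = 1)
    (d : ℕ) (hd : 6 < d) (w : Fin 2 → ZMod d) (hw : ∀ k : ℕ, 0 < k → k < d → k • w ≠ 0)
    (hfix : (M.map (Int.castRingHom (ZMod d))) *ᵥ w = w) : (M - 1).det = 0 := by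
  have h1 : ((M - 1).map (Int.castRingHom (ZMod d))) *ᵥ w = 0 := by
    rw [Matrix.map_sub _ (map_sub _), Matrix.sub_mulVec, hfix,
      Matrix.map_one _ (map_zero _) (map_one _), Matrix.one_mulVec, sub_self]
  have h2 : ((M - 1).det : ZMod d) • w = 0 := by
    have := congrArg (fun v => ((M - 1).map (Int.castRingHom (ZMod d))).adjugate *ᵥ v) h1
    simp only [Matrix.mulVec_mulVec, Matrix.adjugate_mul, Matrix.smul_mulVec, Matrix.one_mulVec,
      Matrix.mulVec_zero] at this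
    rwa [← RingHom.mapMatrix_apply, ← RingHom.map_det] at this
  have : NeZero d := ⟨by omega⟩
  have h3 : ((M - 1).det : ZMod d).val = 0 := by
    by_contra hne
    apply hw _ (Nat.pos_of_ne_zero hne) (ZMod.val_lt _)
    rw [← Nat.cast_smul_eq_nsmul (ZMod d), ZMod.natCast_zmod_val, h2]
  rw [ZMod.val_eq_zero, ZMod.intCast_zmod_eq_zero_iff_dvd] at h3
  refine Int.eq_zero_of_abs_lt_dvd h3 ?_
  rw [det_sub_one]
  have := abs_trace_le M hm h
  have := det_sq M hm h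
  have := abs_add_le (M.det - M.trace) 1
  have := abs_sub M.det M.trace
  rw [abs_one] at *
  omega

end Groth.Agent.BddFin96
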