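import Mathlib

/-!
Finite groups of automorphisms of the complement of a separable degree two point in the projective
line, over a field containing all roots of unity.
-/

universe u v w

open scoped TensorProduct LaurentPolynomial
open LaurentPolynomial

set_option autoImplicit false

namespace Groth.Agent.BddFin96.PunctP1

/-- Units of a Laurent polynomial ring over a field are monomials. -/
theorem exists_eq_C_mul_T_of_isUnit {L : Type*} [Field L] {p : L[T;T⁻¹]} (hp : IsUnit p) :
    ∃ (c : L) (n : ℤ), c ≠ 0 ∧ p = C c * T n := by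
  obtain ⟨p', hp'⟩ := hp.exists_right_inv
  obtain ⟨n, P, hP⟩ := exists_T_pow p
  obtain ⟨m, P', hP'⟩ := exists_T_pow p'
  have h : P * P' = Polynomial.X ^ (n + m) := by
    apply Polynomial.toLaurent_injective
    rw [map_mul, hP, hP', Polynomial.toLaurent_X_pow, mul_mul_mul_comm, hp', one_mul, ← T_add,
      Nat.cast_add]
  have hd : P ∣ Polynomial.X ^ (n + m) := ⟨P', h.symm⟩
  obtain ⟨j, -, hj⟩ := (dvd_prime_pow Polynomial.prime_X _).mp hd
  obtain ⟨U, hU⟩ := hj.symm
  obtain ⟨c, hc, hcU⟩ := Polynomial.isUnit_iff.mp U.isUnit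
  refine ⟨c, (j : ℤ) - n, hc.ne_zero, ?_⟩
  rw [← hU, ← hcU, map_mul, Polynomial.toLaurent_X_pow, Polynomial.toLaurent_C] at hP
  have h2 := congrArg (· * T (-(n : ℤ))) hP
  simp only [mul_assoc, ← T_add, add_neg_cancel, T_zero, mul_one] at h2
  rw [← h2, sub_eq_add_neg, ← mul_assoc, mul_comm (T _) (C c), mul_assoc, ← T_add]

theorem C_mul_T_inj {L : Type*} [Field L] {c d : L} {n m : ℤ} (hc : c ≠ 0)
    (h : (C c * T n : L[T;T⁻¹]) = C d * T m) : c = d ∧ n = m := by
  rcases eq_or_ne d 0 with rfl | hd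
  · rw [map_zero, zero_mul, (isUnit_T n).mul_left_eq_zero, map_eq_zero] at h
    exact absurd h hc
  have hnm : n = m := by
    have := congrArg LaurentPolynomial.degree h
    rw [degree_C_mul_T n c hc, degree_C_mul_T m d hd] at this
    exact_mod_cast this
  subst hnm
  exact ⟨(C : L →+* L[T;T⁻¹]).injective ((isUnit_T n).mul_right_cancel h), rfl⟩

section Abstract

variable {K : Type u} [Field K] {L : Type u} [Field L] [Algebra K L]
variable {A : Type v} [CommRing A] [Algebra K A]

theorem exists_eq_algebraMap_of_pow_eq_one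
    (hK : ∀ n : ℕ, 0 < n → (Polynomial.X ^ n - 1 : Polynomial K).Splits) {c : L} {N : ℕ}
    (hN : 0 < N) (hc : c ^ N = 1) : ∃ k : K, algebraMap K L k = c := by
  set f : Polynomial K := Polynomial.X ^ N - 1 with hf
  have hf0 : f ≠ 0 := (Polynomial.monic_X_pow_sub_C (1 : K) hN.ne').ne_zero
  have hs := hK N hN
  rw [← hf] at hs
  have heval : (f.map (algebraMap K L)).IsRoot c := by
    simp [hf, Polynomial.eval_map, hc, sub_eq_zero]
  have := (Polynomial.mem_roots (Polynomial.map_ne_zero hf0)).mpr heval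
  rw [hs.roots_map, Multiset.mem_map] at this
  obtain ⟨k, -, hk⟩ := this
  exact ⟨k, hk⟩

set_option maxHeartbeats 3200000 in
theorem finite_aut_bound
    (hK : ∀ n : ℕ, 0 < n → (Polynomial.X ^ n - 1 : Polynomial K).Splits)
    (a b c : K) (ha : a ≠ 0) (θ θ' : L) (hne : θ ≠ θ')
    (hsum : algebraMap K L a * (θ + θ') = -algebraMap K L b)
    (hprod : algebraMap K L a * (θ * θ') = algebraMap K L c)
    (σ : L →ₐ[K] L) (hσ : σ θ = θ')
    (u v w : A) (hlin : a • u + b • v + c • w = 1) (huw : u * w = v ^ 2)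
    (hgen : Algebra.adjoin K ({u, v, w} : Set A) = ⊤)
    (ψ : A →ₐ[K] L[T;T⁻¹])
    (hψ : C (algebraMap K L a) * (ψ u - C (2 * θ) * ψ v + C (θ ^ 2) * ψ w) = T 1)
    (G : Subgroup (A ≃+* A)) [Finite G]
    (hG : ∀ g ∈ G, ∀ k : K, g (algebraMap K A k) = algebraMap K A k) :
    (∀ g ∈ G, g ^ 2 = 1) ∧ Nat.card G ≤ 4 := by
  classical
  let cL : L →+* L ⊗[K] A := algebraMap L (L ⊗[K] A)
  let j : A →ₐ[K] L ⊗[K] A := Algebra.TensorProduct.includeRight
  have hj : Function.Injective j :=
    Algebra.TensorProduct.includeRight_injective (algebraMap K L).injective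
  have hjk : ∀ k : K, j (algebraMap K A k) = cL (algebraMap K L k) := fun k => by
    rw [AlgHom.commutes, IsScalarTower.algebraMap_apply K L (L ⊗[K] A)]
  let el : L → L ⊗[K] A := fun x =>
    cL (algebraMap K L a) * (j u - cL (2 * x) * j v + cL (x ^ 2) * j w)
  let t := el θ
  let t' := el θ'
  have hlin' : cL (algebraMap K L a) * j u + cL (algebraMap K L b) * j v
      + cL (algebraMap K L c) * j w = 1 := by
    have := congrArg j hlin
    simpa only [Algebra.smul_def, map_add, map_mul, map_one, hjk] using this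
  have huw' : j u * j w = j v ^ 2 := by rw [← map_mul, huw, map_pow]
  have hsum' : cL (algebraMap K L a) * (cL θ + cL θ') = -cL (algebraMap K L b) := by
    rw [← map_add, ← map_mul, hsum, map_neg]
  have hprod' : cL (algebraMap K L a) * (cL θ * cL θ') = cL (algebraMap K L c) := by
    rw [← map_mul, ← map_mul, hprod]
  have htt : t * t' = 1 := by
    have key : cL (algebraMap K L a) * (j u - (cL θ + cL θ') * j v + cL θ * cL θ' * j w) = 1 := by
      linear_combination hlin' - j v * hsum' + j w * hprod'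
    have key2 := congrArg (fun z => z ^ 2) key
    simp only [one_pow] at key2
    simp only [t, t', el, map_mul, map_pow, map_ofNat]
    linear_combination key2 + cL (algebraMap K L a) ^ 2 * (cL θ - cL θ') ^ 2 * huw'
  let tu : (L ⊗[K] A)ˣ := ⟨t, t', htt, by rw [mul_comm]; exact htt⟩
  -- the two comparison maps
  let Φ : L[T;T⁻¹] →+* L ⊗[K] A := LaurentPolynomial.eval₂ cL tu
  let Ψ : L ⊗[K] A →ₐ[L] L[T;T⁻¹] :=
    Algebra.TensorProduct.lift (Algebra.ofId L L[T;T⁻¹]) ψ fun _ _ => mul_comm _ _
  have hΨc : ∀ x : L, Ψ (cL x) = C x := fun x => by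
    rw [Ψ.commutes, ← LaurentPolynomial.C_eq_algebraMap]
  have hΨj : ∀ z : A, Ψ (j z) = ψ z := fun z =>
    (Algebra.TensorProduct.lift_tmul _ _ _ 1 z).trans (by rw [map_one, one_mul])
  have hΨt : Ψ t = T 1 := by
    simp only [t, el, map_mul, map_sub, map_add, hΨc, hΨj]
    rw [← map_mul]
    exact hψ
  have hΨΦ : ∀ p, Ψ (Φ p) = p := by
    intro p
    induction p using LaurentPolynomial.induction_on' with
    | add p q hp hq => rw [map_add, map_add, hp, hq]
    | C_mul_T n x =>
      rw [eval₂_C_mul_T, map_mul, hΨc]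
      congr 1
      have : Units.map (Ψ : L ⊗[K] A →* L[T;T⁻¹]) tu = (isUnit_T (R := L) 1).unit :=
        Units.ext (by rw [IsUnit.unit_spec]; exact hΨt)
      have h2 := congrArg (fun z : L[T;T⁻¹]ˣ => ((z ^ n : L[T;T⁻¹]ˣ) : L[T;T⁻¹])) this
      simp only [← map_zpow] at h2
      refine h2.trans ?_
      obtain ⟨m, rfl | rfl⟩ := n.eq_nat_or_neg
      · simp [T_pow]
      · rw [zpow_neg, zpow_natCast, ← inv_pow, Units.val_pow_eq_pow_val]
        have : (((isUnit_T (R := L) 1).unit⁻¹ : L[T;T⁻¹]ˣ) : L[T;T⁻¹]) = T (-1) := by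
          refine Units.inv_eq_of_mul_eq_one_right ?_
          rw [IsUnit.unit_spec, ← T_add]; simp
        rw [this, T_pow]; simp
  have hΦc : ∀ x : L, Φ (C x) = cL x := fun x => eval₂_C _ _ x
  have hΦt : Φ (T 1) = t := by rw [eval₂_T, zpow_one]
  have hΦt' : Φ (T (-1)) = t' := by rw [eval₂_T, zpow_neg, zpow_one]; rfl
  have hΦ : Function.Surjective Φ := by
    suffices h : ∀ z : A, j z ∈ Φ.range by
      intro z
      induction z using TensorProduct.induction_on with
      | zero => exact ⟨0, map_zero _⟩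
      | tmul x z =>
        obtain ⟨p, hp⟩ := h z
        refine ⟨C x * p, ?_⟩
        rw [map_mul, hΦc, hp]
        simp [cL, j, Algebra.TensorProduct.tmul_mul_tmul]
      | add x y hx hy =>
        obtain ⟨⟨p, rfl⟩, ⟨q, rfl⟩⟩ := hx, hy
        exact ⟨p + q, map_add _ _ _⟩
    have hd : cL (θ - θ') ≠ 0 ∧ IsUnit (cL (θ - θ')) :=
      ⟨fun h => sub_ne_zero.mpr hne ((map_eq_zero_iff cL (by
        intro x y hxy
        have := congrArg Ψ hxy
        rw [hΨc, hΨc] at this
        exact (C : L →+* L[T;T⁻¹]).injective this)).mp h),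
        (sub_ne_zero.mpr hne).isUnit.map cL⟩
    have mc : ∀ x : L, cL x ∈ Φ.range := fun x => ⟨C x, hΦc x⟩
    have mi : ∀ x : L, x ≠ 0 → ∀ z, cL x * z ∈ Φ.range → z ∈ Φ.range := by
      intro x hx z hz
      have := mul_mem (mc x⁻¹) hz
      rwa [← mul_assoc, ← map_mul, inv_mul_cancel₀ hx, map_one, one_mul] at this
    have haL : algebraMap K L a ≠ 0 := by simpa using ha
    have mt : t ∈ Φ.range := ⟨_, hΦt⟩
    have mt' : t' ∈ Φ.range := ⟨_, hΦt'⟩
    have mw : j w ∈ Φ.range := by
      refine mi (algebraMap K L a * (θ - θ') ^ 2) (by simp [haL, sub_ne_zero.mpr hne]) _ ?_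
      have : cL (algebraMap K L a * (θ - θ') ^ 2) * j w = t + t' - 2 := by
        simp only [t, t', el, map_mul, map_pow, map_sub, map_ofNat]
        linear_combination (2 : L ⊗[K] A) * j v * hsum' - (2 : L ⊗[K] A) * j w * hprod' - 2 * hlin'
      rw [this, ← one_add_one_eq_two]
      exact sub_mem (add_mem mt mt') (add_mem (one_mem _) (one_mem _))
    have mv : j v ∈ Φ.range := by
      refine mi (algebraMap K L a * (θ' - θ)) (by simp [haL, sub_ne_zero.mpr hne.symm]) _ ?_
      have : cL (algebraMap K L a * (θ' - θ)) * j v =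
          t - 1 - cL (algebraMap K L a * θ * (θ - θ')) * j w := by
        simp only [t, el, map_mul, map_pow, map_sub, map_ofNat]
        linear_combination j v * hsum' - j w * hprod' - hlin'
      rw [this]
      exact sub_mem (sub_mem mt (one_mem _)) (mul_mem (mc _) mw)
    have mu : j u ∈ Φ.range := by
      refine mi (algebraMap K L a) haL _ ?_
      rw [show cL (algebraMap K L a) * j u =
        1 - cL (algebraMap K L b) * j v - cL (algebraMap K L c) * j w by linear_combination hlin']
      exact sub_mem (sub_mem (one_mem _) (mul_mem (mc _) mv)) (mul_mem (mc _) mw)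
    intro z
    have hz : z ∈ Algebra.adjoin K ({u, v, w} : Set A) := hgen ▸ Algebra.mem_top
    induction hz using Algebra.adjoin_induction with
    | mem x hx =>
      rcases hx with rfl | rfl | rfl
      · exact mu
      · exact mv
      · exact mw
    | algebraMap k => exact hjk k ▸ mc _
    | add x y _ _ hx hy => exact map_add j x y ▸ add_mem hx hy
    | mul x y _ _ hx hy => exact map_mul j x y ▸ mul_mem hx hy
  have hΦΨ : ∀ z, Φ (Ψ z) = z := by
    intro z
    obtain ⟨p, rfl⟩ := hΦ z
    rw [hΨΦ]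
  -- units
  have hunit : ∀ z : L ⊗[K] A, IsUnit z → ∃ (x : L) (n : ℤ), x ≠ 0 ∧
      z = cL x * ((tu ^ n : (L ⊗[K] A)ˣ) : L ⊗[K] A) := by
    intro z hz
    obtain ⟨x, n, hx, hxn⟩ := exists_eq_C_mul_T_of_isUnit (hz.map Ψ)
    refine ⟨x, n, hx, ?_⟩
    rw [← hΦΨ z, hxn, eval₂_C_mul_T]
  have hinj : ∀ {x y : L} {n m : ℤ}, x ≠ 0 → cL x * ((tu ^ n : (L ⊗[K] A)ˣ) : L ⊗[K] A) =
      cL y * ((tu ^ m : (L ⊗[K] A)ˣ) : L ⊗[K] A) → x = y ∧ n = m := by
    intro x y n m hx h
    rw [← eval₂_C_mul_T cL tu, ← eval₂_C_mul_T cL tu] at h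
    have := congrArg Ψ h
    rw [hΨΦ, hΨΦ] at this
    exact C_mul_T_inj hx this
  -- extended automorphisms
  let toAlg : G → (A ≃ₐ[K] A) := fun g => AlgEquiv.ofRingEquiv (f := (g : A ≃+* A)) (hG g g.2)
  let ext : G → (L ⊗[K] A →ₐ[L] L ⊗[K] A) := fun g =>
    Algebra.TensorProduct.map (AlgHom.id L L) (toAlg g : A →ₐ[K] A)
  have hextc : ∀ g x, ext g (cL x) = cL x := fun g x => (ext g).commutes x
  have hextj : ∀ (g : G) z, ext g (j z) = j ((g : A ≃+* A) z) := fun g z => by
    simp [ext, j, toAlg]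
  have hext_mul : ∀ g g' z, ext (g * g') z = ext g (ext g' z) := by
    intro g g' z
    induction z using TensorProduct.induction_on with
    | zero => simp
    | tmul x z => simp [ext, toAlg]
    | add x y hx hy => rw [map_add, map_add, map_add, hx, hy]
  have hext_one : ∀ z, ext 1 z = z := by
    intro z
    induction z using TensorProduct.induction_on with
    | zero => simp
    | tmul x z => simp [ext, toAlg]
    | add x y hx hy => rw [map_add, hx, hy]
  have ext_injective : ∀ g g', ext g t = ext g' t → g = g' := by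
    intro g g' h
    have h2 : ∀ z, ext g z = ext g' z := by
      have h3 : Units.map (ext g : L ⊗[K] A →* L ⊗[K] A) tu =
          Units.map (ext g' : L ⊗[K] A →* L ⊗[K] A) tu := Units.ext h
      intro z
      obtain ⟨p, rfl⟩ := hΦ z
      induction p using LaurentPolynomial.induction_on' with
      | add p q hp hq => simp only [map_add, hp, hq]
      | C_mul_T n x =>
        rw [eval₂_C_mul_T, map_mul, map_mul, hextc, hextc]
        congr 1
        have h4 := congrArg (fun z : (L ⊗[K] A)ˣ => ((z ^ n : (L ⊗[K] A)ˣ) : L ⊗[K] A)) h3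
        simp only [← map_zpow] at h4
        exact h4
    apply Subtype.ext
    apply RingEquiv.ext
    intro z
    exact hj (by rw [← hextj, ← hextj, h2])
  -- shape of an automorphism
  have hshape : ∀ g : G, ∃ x : L, x ≠ 0 ∧ (ext g t = cL x * t ∨ ext g t = cL x * t') := by
    intro g
    obtain ⟨x, n, hx, hxn⟩ := hunit (ext g t) (tu.isUnit.map (ext g))
    obtain ⟨y, m, hy, hym⟩ := hunit (ext g⁻¹ t) (tu.isUnit.map (ext g⁻¹))
    have h3 : Units.map (ext g⁻¹ : L ⊗[K] A →* L ⊗[K] A) tu =
        Units.map cL.toMonoidHom (Units.mk0 y hy) * tu ^ m := Units.ext hym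
    have h4 := congrArg (fun z : (L ⊗[K] A)ˣ => ((z ^ n : (L ⊗[K] A)ˣ) : L ⊗[K] A)) h3
    simp only [← map_zpow, mul_zpow] at h4
    rw [Units.val_mul, Units.coe_map, Units.coe_map, ← zpow_mul] at h4
    have h5 : cL 1 * ((tu ^ (1 : ℤ) : (L ⊗[K] A)ˣ) : L ⊗[K] A) =
        cL (x * ((Units.mk0 y hy ^ n : Lˣ) : L)) *
          ((tu ^ (m * n) : (L ⊗[K] A)ˣ) : L ⊗[K] A) := by
      calc cL 1 * ((tu ^ (1 : ℤ) : (L ⊗[K] A)ˣ) : L ⊗[K] A) = t := by rw [map_one, one_mul, zpow_one]
        _ = ext g⁻¹ (ext g t) := by rw [← hext_mul, inv_mul_cancel, hext_one]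
        _ = _ := by rw [hxn, map_mul, hextc, map_mul, mul_assoc]; congr 1
    obtain ⟨-, h6⟩ := hinj one_ne_zero h5
    refine ⟨x, hx, ?_⟩
    rcases Int.eq_one_or_neg_one_of_mul_eq_one' h6.symm with ⟨-, h7⟩ | ⟨-, h7⟩
    · left; rw [hxn, h7, zpow_one]
    · right; rw [hxn, h7, zpow_neg, zpow_one]; rfl
  have hext' : ∀ (g : G) (x : L), x ≠ 0 → ext g t = cL x * t → ext g t' = cL x⁻¹ * t' := by
    intro g x hx h
    have h1 : ext g t * ext g t' = 1 := by rw [← map_mul, htt, map_one]
    rw [h] at h1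
    have h2 : cL x⁻¹ * t' * (cL x * t) = 1 := by
      rw [show cL x⁻¹ * t' * (cL x * t) = cL x⁻¹ * cL x * (t * t') by ring, htt, ← map_mul,
        inv_mul_cancel₀ hx, map_one, mul_one]
    exact (left_inv_eq_right_inv h2 h1).symm
  -- rotations
  let S : L ⊗[K] A →ₐ[K] L ⊗[K] A := Algebra.TensorProduct.map σ (AlgHom.id K A)
  have hSc : ∀ x, S (cL x) = cL (σ x) := fun x => by simp [S, cL]
  have hSj : ∀ z, S (j z) = j z := fun z => by simp [S, j]
  have hSt : S t = t' := by
    simp only [t, t', el, map_mul, map_add, map_sub, hSc, hSj, map_pow, hσ, AlgHom.commutes,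
      map_ofNat]
  have hScomm : ∀ g z, S (ext g z) = ext g (S z) := by
    intro g z
    induction z using TensorProduct.induction_on with
    | zero => simp
    | tmul x z => simp [ext, S]
    | add x y hx hy => simp only [map_add, hx, hy]
  have hrot : ∀ (g : G) (x : L), ext g t = cL x * t → x = 1 ∨ x = -1 := by
    intro g x h
    have hx : x ≠ 0 := by
      rintro rfl
      have h0 : IsUnit (ext g t) := tu.isUnit.map (ext g)
      rw [h, map_zero, zero_mul, isUnit_zero_iff] at h0
      have h1 := congrArg Ψ h0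
      rw [map_zero, map_one] at h1
      exact zero_ne_one h1
    have hpow : ∀ k : ℕ, ext (g ^ k) t = cL (x ^ k) * t := by
      intro k
      induction k with
      | zero => rw [pow_zero, hext_one, pow_zero, map_one, one_mul]
      | succ k ih =>
        rw [pow_succ', hext_mul, ih, map_mul, hextc, h, ← mul_assoc, ← map_mul, ← pow_succ]
    have hN : 0 < orderOf g := orderOf_pos g
    have hxN : x ^ orderOf g = 1 := by
      have h1 := hpow (orderOf g)
      rw [pow_orderOf_eq_one, hext_one] at h1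
      have h2 : cL 1 * ((tu ^ (1 : ℤ) : (L ⊗[K] A)ˣ) : L ⊗[K] A) =
          cL (x ^ orderOf g) * ((tu ^ (1 : ℤ) : (L ⊗[K] A)ˣ) : L ⊗[K] A) := by
        rw [zpow_one, map_one, one_mul]; exact h1
      exact (hinj one_ne_zero h2).1.symm
    obtain ⟨k, hk⟩ := exists_eq_algebraMap_of_pow_eq_one hK hN hxN
    have h1 := hext' g x hx h
    rw [← hSt, ← hScomm, h, map_mul, hSc, hSt, ← hk, AlgHom.commutes] at h1
    have h2 : cL (algebraMap K L k) * ((tu ^ (-1 : ℤ) : (L ⊗[K] A)ˣ) : L ⊗[K] A) =
        cL (algebraMap K L k)⁻¹ * ((tu ^ (-1 : ℤ) : (L ⊗[K] A)ˣ) : L ⊗[K] A) := by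
      rw [zpow_neg, zpow_one]; exact h1
    rw [hk] at h2
    have h3 := (hinj hx h2).1
    have h4 : x * x = 1 := by
      conv_lhs => arg 2; rw [h3]
      exact mul_inv_cancel₀ hx
    exact mul_self_eq_one_iff.mp h4
  constructor
  · intro g hg
    have key : (⟨g, hg⟩ : G) ^ 2 = 1 := by
      apply ext_injective
      rw [hext_one, sq, hext_mul]
      obtain ⟨x, hx, h | h⟩ := hshape ⟨g, hg⟩
      · rw [h, map_mul, hextc, h, ← mul_assoc, ← map_mul]
        rcases hrot _ x h with rfl | rfl <;> simp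
      · rw [h, map_mul, hextc]
        have h1 : ext ⟨g, hg⟩ t * ext ⟨g, hg⟩ t' = 1 := by rw [← map_mul, htt, map_one]
        rw [h] at h1
        calc cL x * ext ⟨g, hg⟩ t' = (t * t') * (cL x * ext ⟨g, hg⟩ t') := by rw [htt, one_mul]
          _ = t * (cL x * t' * ext ⟨g, hg⟩ t') := by ring
          _ = t := by rw [h1, mul_one]
    exact congrArg Subtype.val key
  · -- counting
    by_cases hr : ∃ (g : G) (x : L), ext g t = cL x * t'
    · obtain ⟨g₀, x₀, h₀⟩ := hr
      let s : Finset (L ⊗[K] A) := {t, -t, cL x₀ * t', -(cL x₀ * t')}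
      have hs : ∀ g : G, ext g t ∈ s := by
        intro g
        obtain ⟨x, hx, h | h⟩ := hshape g
        · rcases hrot g x h with rfl | rfl
          · simp [s, h]
          · simp [s, h]
        · -- compose two reflections
          have h1 : ext g t * ext g t' = 1 := by rw [← map_mul, htt, map_one]
          rw [h] at h1
          have hr2 : ext g t' = cL x⁻¹ * t := by
            have h2 : cL x⁻¹ * t * (cL x * t') = 1 := by
              rw [show cL x⁻¹ * t * (cL x * t') = cL x⁻¹ * cL x * (t * t') by ring, htt, ← map_mul,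
                inv_mul_cancel₀ hx, map_one, mul_one]
            exact (left_inv_eq_right_inv h2 h1).symm
          have h2 : ext (g * g₀) t = cL (x₀ * x⁻¹) * t := by
            rw [hext_mul, h₀, map_mul, hextc, hr2, ← mul_assoc, ← map_mul]
          rcases hrot _ _ h2 with h3 | h3
          · rw [mul_inv_eq_one₀ hx] at h3
            subst h3
            simp [s, h]
          · have : x₀ = -x := by field_simp at h3; linear_combination h3
            subst this
            simp [s, h]
      calc Nat.card G ≤ Nat.card s :=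
            Nat.card_le_card_of_injective (fun g => ⟨ext g t, hs g⟩)
              fun g g' h => ext_injective g g' (congrArg Subtype.val h)
        _ = s.card := Nat.card_eq_finsetCard s
        _ ≤ 4 := by simp only [s]; exact Finset.card_le_four
    · let s : Finset (L ⊗[K] A) := {t, -t}
      have hs : ∀ g : G, ext g t ∈ s := by
        intro g
        obtain ⟨x, hx, h | h⟩ := hshape g
        · rcases hrot g x h with rfl | rfl <;> simp [s, h]
        · exact absurd ⟨g, x, h⟩ hr
      calc Nat.card G ≤ Nat.card s :=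
            Nat.card_le_card_of_injective (fun g => ⟨ext g t, hs g⟩)
              fun g g' h => ext_injective g g' (congrArg Subtype.val h)
        _ = s.card := Nat.card_eq_finsetCard s
        _ ≤ 4 := by simp only [s]; exact Finset.card_le_two.trans (by norm_num)

end Abstract

end Groth.Agent.BddFin96.PunctP1
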