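import Mathlib
import Groth.Agent.BddFin96.PunctP1

/-!
The coordinate ring of the projective line minus the zero locus of an irreducible separable quadratic
form, and the bound for its finite automorphism groups.
-/

universe u

open MvPolynomial
open scoped LaurentPolynomial

attribute [local instance] MvPolynomial.gradedAlgebra

set_option autoImplicit false

namespace Groth.Agent.BddFin96.PunctP1

variable {K : Type u} [Field K]

theorem eq_of_isHomogeneous_two {q : MvPolynomial (Fin 2) K} (hq : q.IsHomogeneous 2) :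
    q = C (q.coeff (Finsupp.single 0 2)) * X 0 ^ 2
      + C (q.coeff (Finsupp.single 0 1 + Finsupp.single 1 1)) * (X 0 * X 1)
      + C (q.coeff (Finsupp.single 1 2)) * X 1 ^ 2 := by
  classical
  have e1 : (X 0 * X 1 : MvPolynomial (Fin 2) K)
      = monomial (Finsupp.single 0 1 + Finsupp.single 1 1) 1 := by
    rw [X, X, monomial_mul, one_mul]
  simp only [X_pow_eq_monomial, e1, C_mul_monomial, mul_one]
  ext m
  simp only [coeff_add, coeff_monomial]
  by_cases hm : m 0 + m 1 = 2
  · have h0 : m 0 ≤ 2 := by omega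
    have key : m = Finsupp.single 0 (m 0) + Finsupp.single 1 (m 1) := by
      ext i; fin_cases i <;> simp
    rcases Nat.lt_or_ge (m 0) 1 with h | h
    · have : m = Finsupp.single 1 2 := by
        rw [key, show m 0 = 0 by omega, show m 1 = 2 by omega, Finsupp.single_zero, zero_add]
      subst this
      simp [Finsupp.ext_iff, Fin.forall_fin_two]
    rcases Nat.lt_or_ge (m 0) 2 with h' | h'
    · have : m = Finsupp.single 0 1 + Finsupp.single 1 1 := by
        rw [key, show m 0 = 1 by omega, show m 1 = 1 by omega]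
      subst this
      simp [Finsupp.ext_iff, Fin.forall_fin_two]
    · have : m = Finsupp.single 0 2 := by
        rw [key, show m 0 = 2 by omega, show m 1 = 0 by omega, Finsupp.single_zero, add_zero]
      subst this
      simp [Finsupp.ext_iff, Fin.forall_fin_two]
  · have hd : m.degree ≠ 2 := by
      rw [Finsupp.degree_eq_sum, Fin.sum_univ_two]; exact hm
    rw [hq.coeff_eq_zero hd]
    have : ∀ m' : Fin 2 →₀ ℕ, m' 0 + m' 1 = 2 → m' ≠ m := fun m' h e => hm (e ▸ h)
    rw [if_neg (this _ (by simp)), if_neg (this _ (by simp)), if_neg (this _ (by simp))]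
    simp

theorem coeff_ne_zero_of_irreducible {q : MvPolynomial (Fin 2) K} (a b c : K)
    (hqq : q = C a * X 0 ^ 2 + C b * (X 0 * X 1) + C c * X 1 ^ 2) (hirr : Irreducible q) :
    a ≠ 0 ∧ ∀ r : K, a * r ^ 2 + b * r + c ≠ 0 := by
  have hnu : ∀ p : MvPolynomial (Fin 2) K, constantCoeff p = 0 → ¬ IsUnit p := fun p hp hu => by
    simpa [hp] using hu.map constantCoeff
  constructor
  · rintro rfl
    rcases hirr.isUnit_or_isUnit (a := X 1) (b := C b * X 0 + C c * X 1)
      (by rw [hqq, map_zero]; ring) with h | h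
    · exact hnu _ (by simp) h
    · exact hnu _ (by simp) h
  · intro r hr
    have hC : C (a * r ^ 2 + b * r + c) = (0 : MvPolynomial (Fin 2) K) := by rw [hr, map_zero]
    simp only [map_add, map_mul, map_pow] at hC
    rcases hirr.isUnit_or_isUnit (a := X 0 - C r * X 1) (b := C a * X 0 + C (b + a * r) * X 1)
      (by rw [hqq, map_add, map_mul]; linear_combination (X 1 ^ 2) * hC) with h | h
    · exact hnu _ (by simp) h
    · exact hnu _ (by simp) h

theorem exists_quadratic_ext (a b c : K) (ha : a ≠ 0) (hroot : ∀ r : K, a * r ^ 2 + b * r + c ≠ 0)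
    (hdisc : b ^ 2 - 4 * a * c ≠ 0) :
    ∃ (L : Type u) (_ : Field L) (_ : Algebra K L) (θ θ' : L) (σ : L →ₐ[K] L), σ θ = θ' ∧ θ ≠ θ' ∧
      algebraMap K L a * (θ + θ') = -algebraMap K L b ∧
      algebraMap K L a * (θ * θ') = algebraMap K L c := by
  let f : Polynomial K :=
    Polynomial.C a * Polynomial.X ^ 2 + Polynomial.C b * Polynomial.X + Polynomial.C c
  have hdeg : f.natDegree = 2 := Polynomial.natDegree_quadratic ha
  have hirr : Irreducible f := Polynomial.irreducible_of_degree_le_three_of_not_isRoot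
    (by rw [hdeg]; decide) fun r hr => hroot r (by simpa [f, Polynomial.IsRoot] using hr)
  have := Fact.mk hirr
  let L := AdjoinRoot f
  let θ : L := AdjoinRoot.root f
  let θ' : L := -(algebraMap K L b / algebraMap K L a) - θ
  have haL : algebraMap K L a ≠ 0 := by simpa using ha
  have hroot' : algebraMap K L a * θ ^ 2 + algebraMap K L b * θ + algebraMap K L c = 0 := by
    have := AdjoinRoot.eval₂_root f
    simp [f] at this
    exact this
  have hsum : algebraMap K L a * (θ + θ') = -algebraMap K L b := by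
    simp only [θ']
    rw [show θ + (-(algebraMap K L b / algebraMap K L a) - θ) = -(algebraMap K L b / algebraMap K L a)
      by ring, mul_neg, mul_div_cancel₀ _ haL]
  have hprod : algebraMap K L a * (θ * θ') = algebraMap K L c := by
    linear_combination θ * hsum - hroot'
  have hθ' : Polynomial.aeval θ' f = 0 := by
    simp only [f, map_add, map_mul, map_pow, Polynomial.aeval_C, Polynomial.aeval_X]
    linear_combination θ' * hsum - hprod
  refine ⟨L, inferInstance, inferInstance, θ, θ',
    AdjoinRoot.liftAlgHom f (Algebra.ofId K L) θ' hθ', AdjoinRoot.liftAlgHom_root _ _ _ _,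
    ?_, hsum, hprod⟩
  intro he
  apply hdisc
  apply (algebraMap K L).injective
  rw [map_zero, map_sub, map_mul, map_mul, map_pow, map_ofNat]
  rw [← he] at hsum hprod
  linear_combination (algebraMap K L b - 2 * algebraMap K L a * θ) * hsum
    + 4 * algebraMap K L a * hprod

local notation "𝒜" => MvPolynomial.homogeneousSubmodule (Fin 2) K

/-- The coordinate ring of the complement of the zero locus of `q`. -/
abbrev Aw (q : MvPolynomial (Fin 2) K) : Type u := HomogeneousLocalization.Away 𝒜 q

/-- The ambient localization. -/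
abbrev Lc (q : MvPolynomial (Fin 2) K) : Type u := Localization.Away q

/-- The inclusion into the ambient localization. -/
noncomputable def incl (q : MvPolynomial (Fin 2) K) : Aw q →+* Lc q :=
  algebraMap (Aw q) (Localization (Submonoid.powers q))

theorem incl_apply (q : MvPolynomial (Fin 2) K) (x : Aw q) : incl q x = x.val := rfl

theorem incl_injective (q : MvPolynomial (Fin 2) K) : Function.Injective (incl q) :=
  HomogeneousLocalization.val_injective _

/-- Constants in degree zero. -/
noncomputable def cst : K →+* 𝒜 0 where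
  toFun k := ⟨C k, MvPolynomial.isHomogeneous_C _ k⟩
  map_one' := Subtype.ext (map_one C)
  map_mul' x y := Subtype.ext (map_mul C x y)
  map_zero' := Subtype.ext (map_zero C)
  map_add' x y := Subtype.ext (map_add C x y)

/-- The structure map of the coordinate ring. -/
noncomputable def kHom (q : MvPolynomial (Fin 2) K) : K →+* Aw q :=
  (HomogeneousLocalization.fromZeroRingHom 𝒜 (Submonoid.powers q)).comp cst

theorem incl_kHom (q : MvPolynomial (Fin 2) K) (k : K) :
    incl q (kHom q k) = algebraMap (MvPolynomial (Fin 2) K) (Lc q) (C k) := by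
  show Localization.mk (C k) _ = _
  rw [← Localization.mk_one_eq_algebraMap]
  rfl

theorem algebraMap_C_eq (q : MvPolynomial (Fin 2) K) (k : K) :
    algebraMap (MvPolynomial (Fin 2) K) (Lc q) (C k) = algebraMap K (Lc q) k :=
  (IsScalarTower.algebraMap_apply K (MvPolynomial (Fin 2) K) (Lc q) k).symm

theorem kHom_mul (q : MvPolynomial (Fin 2) K) (k : K) (x : Aw q) : kHom q k * x = k • x := by
  apply incl_injective q
  rw [map_mul, incl_kHom, algebraMap_C_eq, incl_apply, incl_apply,
    HomogeneousLocalization.val_smul, ← Algebra.smul_def]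

theorem exists_gens (q : MvPolynomial (Fin 2) K) (hq : q.IsHomogeneous 2) :
    ∃ (e : Lc q) (u v w : Aw q), e * algebraMap (MvPolynomial (Fin 2) K) (Lc q) q = 1 ∧
      incl q u = algebraMap (MvPolynomial (Fin 2) K) (Lc q) (X 0 * X 0) * e ∧
      incl q v = algebraMap (MvPolynomial (Fin 2) K) (Lc q) (X 0 * X 1) * e ∧
      incl q w = algebraMap (MvPolynomial (Fin 2) K) (Lc q) (X 1 * X 1) * e ∧
      @Algebra.adjoin K (Aw q) _ _ (kHom q).toAlgebra {u, v, w} = ⊤ := by
  let _ : Algebra K (Aw q) := (kHom q).toAlgebra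
  have hq2 : q ∈ 𝒜 2 := hq
  let am := algebraMap (MvPolynomial (Fin 2) K) (Lc q)
  have hau : IsUnit (am q) := IsLocalization.Away.algebraMap_isUnit q
  let e : Lc q := ((hau.unit⁻¹ : (Lc q)ˣ) : Lc q)
  have he : e * am q = 1 := hau.val_inv_mul
  have hmk : ∀ (n : ℕ) (p : MvPolynomial (Fin 2) K) (hp : p ∈ 𝒜 (n • 2)),
      incl q (HomogeneousLocalization.Away.mk 𝒜 hq2 n p hp) = am p * e ^ n := by
    intro n p hp
    have h1 : incl q (HomogeneousLocalization.Away.mk 𝒜 hq2 n p hp) * am q ^ n = am p := by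
      rw [incl_apply, HomogeneousLocalization.Away.val_mk, Localization.mk_eq_mk', ← map_pow]
      exact IsLocalization.mk'_spec _ _ _
    rw [← h1, mul_assoc, ← mul_pow, mul_comm (am q), he, one_pow, mul_one]
  have hXX : ∀ i j : Fin 2, (X i * X j : MvPolynomial (Fin 2) K) ∈ 𝒜 (1 • 2) := fun i j =>
    (MvPolynomial.isHomogeneous_X K i).mul (MvPolynomial.isHomogeneous_X K j)
  let el : Fin 2 → Fin 2 → Aw q := fun i j =>
    HomogeneousLocalization.Away.mk 𝒜 hq2 1 _ (hXX i j)
  have hmk1 : ∀ i j, incl q (el i j) = am (X i * X j) * e := fun i j => by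
    rw [hmk 1 _ (hXX i j), pow_one]
  refine ⟨e, el 0 0, el 0 1, el 1 1, he, hmk1 0 0, hmk1 0 1, hmk1 1 1, ?_⟩
  let zA : Aw q →ₐ[K] Lc q :=
    { toRingHom := incl q
      commutes' := fun k => (incl_kHom q k).trans (algebraMap_C_eq q k) }
  rw [eq_top_iff]
  intro x _
  obtain ⟨n, p, hp, rfl⟩ := HomogeneousLocalization.Away.mk_surjective 𝒜 hq2 x
  let B := (Algebra.adjoin K ({el 0 0, el 0 1, el 1 1} : Set (Aw q))).map zA
  have gen : ∀ i ∈ ({el 0 0, el 0 1, el 1 1} : Set (Aw q)), incl q i ∈ B := fun i hi =>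
    ⟨i, Algebra.subset_adjoin hi, rfl⟩
  have hB : am p * e ^ n ∈ B := by
    rw [p.as_sum, map_sum, Finset.sum_mul]
    refine sum_mem fun d hd => ?_
    have hdeg : d 0 + d 1 = n * 2 := by
      have := hp (MvPolynomial.mem_support_iff.mp hd)
      simpa [Finsupp.weight_apply, Finsupp.sum_fintype, Fin.sum_univ_two] using this
    rw [MvPolynomial.monomial_eq, Finsupp.prod_pow, Fin.prod_univ_two, map_mul, map_mul, map_pow,
      map_pow, show am (C (coeff d p)) = algebraMap K (Lc q) (coeff d p) from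
        algebraMap_C_eq q _, mul_assoc]
    refine mul_mem (Subalgebra.algebraMap_mem _ _) ?_
    obtain ⟨α, hα⟩ := Nat.even_or_odd' (d 0)
    obtain ⟨β, hβ⟩ := Nat.even_or_odd' (d 1)
    have h00 : am (X 0) * am (X 0) * e ∈ B := by
      rw [← map_mul, ← hmk1]; exact gen _ (by simp)
    have h01 : am (X 0) * am (X 1) * e ∈ B := by
      rw [← map_mul, ← hmk1]; exact gen _ (by simp)
    have h11 : am (X 1) * am (X 1) * e ∈ B := by
      rw [← map_mul, ← hmk1]; exact gen _ (by simp)
    rcases hα with hα | hα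
    · obtain hβ | hβ := hβ
      · rw [hα, hβ, show n = α + β by omega,
          show am (X 0) ^ (2 * α) * am (X 1) ^ (2 * β) * e ^ (α + β)
          = (am (X 0) * am (X 0) * e) ^ α * (am (X 1) * am (X 1) * e) ^ β by ring]
        exact mul_mem (pow_mem h00 _) (pow_mem h11 _)
      · omega
    · obtain hβ | hβ := hβ
      · omega
      · rw [hα, hβ, show n = α + β + 1 by omega,
          show am (X 0) ^ (2 * α + 1) * am (X 1) ^ (2 * β + 1) * e ^ (α + β + 1)
          = (am (X 0) * am (X 0) * e) ^ α * (am (X 1) * am (X 1) * e) ^ β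
            * (am (X 0) * am (X 1) * e) by ring]
        exact mul_mem (mul_mem (pow_mem h00 _) (pow_mem h11 _)) h01
  rw [← hmk n p hp] at hB
  obtain ⟨y, hy, hyx⟩ := hB
  exact (incl_injective q hyx : y = _) ▸ hy

theorem exists_param {L : Type u} [Field L] [Algebra K L] (a b c : K) (q : MvPolynomial (Fin 2) K)
    (ha : a ≠ 0) (hqq : q = C a * X 0 ^ 2 + C b * (X 0 * X 1) + C c * X 1 ^ 2)
    (θ θ' : L) (hne : θ ≠ θ') (hsum : algebraMap K L a * (θ + θ') = -algebraMap K L b)
    (hprod : algebraMap K L a * (θ * θ') = algebraMap K L c) :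
    ∃ ev : MvPolynomial (Fin 2) K →ₐ[K] L[T;T⁻¹], IsUnit (ev q) ∧
      ev q = LaurentPolynomial.C (algebraMap K L a) * LaurentPolynomial.T 1 ∧
      ev (X 0) - LaurentPolynomial.C θ * ev (X 1) = LaurentPolynomial.T 1 := by
  let T1 : L[T;T⁻¹] := LaurentPolynomial.T 1
  let cc : L →+* L[T;T⁻¹] := LaurentPolynomial.C
  have hd : θ' - θ ≠ 0 := sub_ne_zero.mpr hne.symm
  let y0 : L[T;T⁻¹] := cc (θ' - θ)⁻¹ * (T1 - 1)
  let x0 : L[T;T⁻¹] := 1 + cc θ' * y0
  let ev : MvPolynomial (Fin 2) K →ₐ[K] L[T;T⁻¹] := MvPolynomial.aeval ![x0, y0]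
  have hd' : cc (θ' - θ)⁻¹ * (cc θ' - cc θ) = 1 := by
    rw [← map_sub, ← map_mul, inv_mul_cancel₀ hd, map_one]
  have hx1 : x0 - cc θ * y0 = T1 := by
    simp only [x0, y0]
    linear_combination (T1 - 1) * hd'
  have hkc : ∀ k : K, algebraMap K L[T;T⁻¹] k = cc (algebraMap K L k) := fun k => by
    rw [IsScalarTower.algebraMap_apply K L L[T;T⁻¹], ← LaurentPolynomial.C_eq_algebraMap]
  have hevq : ev q = cc (algebraMap K L a) * T1 := by
    have h1 := congrArg cc hsum
    have h2 := congrArg cc hprod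
    simp only [map_add, map_mul, map_neg] at h1 h2
    rw [hqq]
    simp only [ev, map_add, map_mul, map_pow, MvPolynomial.aeval_X, MvPolynomial.algHom_C,
      Matrix.cons_val_zero, Matrix.cons_val_one, hkc]
    simp only [x0] at hx1 ⊢
    linear_combination cc (algebraMap K L a) * hx1 + (1 + cc θ' * y0) * y0 * h1 - y0 ^ 2 * h2
  refine ⟨ev, hevq ▸ ((IsUnit.mk0 _ (by simpa using ha : algebraMap K L a ≠ 0)).map cc).mul
      (LaurentPolynomial.isUnit_T 1), hevq, ?_⟩
  simp only [ev, MvPolynomial.aeval_X, Matrix.cons_val_zero, Matrix.cons_val_one]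
  exact hx1

theorem finite_aut_puncturedProjLine
    (hK : ∀ n : ℕ, 0 < n → (Polynomial.X ^ n - 1 : Polynomial K).Splits)
    (q : MvPolynomial (Fin 2) K) (hq : q.IsHomogeneous 2) (hirr : Irreducible q)
    (hdisc : (q.coeff (Finsupp.single 0 1 + Finsupp.single 1 1)) ^ 2
      - 4 * q.coeff (Finsupp.single 0 2) * q.coeff (Finsupp.single 1 2) ≠ 0)
    (G : Subgroup (Aw q ≃+* Aw q))
    [Finite G]
    (hG : ∀ g ∈ G, ∀ (k : K) (z : Aw q), g (k • z) = k • g z) :
    (∀ g ∈ G, g ^ 2 = 1) ∧ Nat.card G ≤ 4 := by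
  obtain ⟨a, b, c, hqq, hdisc⟩ : ∃ a b c : K,
      q = C a * X 0 ^ 2 + C b * (X 0 * X 1) + C c * X 1 ^ 2 ∧ b ^ 2 - 4 * a * c ≠ 0 :=
    ⟨_, _, _, eq_of_isHomogeneous_two hq, hdisc⟩
  obtain ⟨ha, hroot⟩ := coeff_ne_zero_of_irreducible a b c hqq hirr
  obtain ⟨L, _, _, θ, θ', σ, hσ, hne, hsum, hprod⟩ := exists_quadratic_ext a b c ha hroot hdisc
  obtain ⟨e, u, v, w, he, hu, hv, hw, hgen⟩ := exists_gens q hq
  obtain ⟨ev, hevu, hevq, hx1⟩ := exists_param a b c q ha hqq θ θ' hne hsum hprod
  let _ : Algebra K (Aw q) := (kHom q).toAlgebra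
  have hzk : ∀ k : K, incl q (algebraMap K (Aw q) k) = algebraMap (MvPolynomial (Fin 2) K) (Lc q) (C k) :=
    incl_kHom q
  simp only [map_mul] at hu hv hw
  have hlin : a • u + b • v + c • w = 1 := by
    rw [← kHom_mul, ← kHom_mul, ← kHom_mul]
    apply incl_injective q
    simp only [map_add, map_mul, incl_kHom, hu, hv, hw, map_one]
    have hq' := congrArg (algebraMap (MvPolynomial (Fin 2) K) (Lc q)) hqq
    simp only [map_add, map_mul, map_pow] at hq'
    linear_combination he - e * hq'
  have huw : u * w = v ^ 2 := by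
    apply incl_injective q
    simp only [map_mul, map_pow, hu, hv, hw]
    ring
  let evL : Lc q →+* L[T;T⁻¹] := IsLocalization.Away.lift q (g := ev.toRingHom) hevu
  have hevL : ∀ p, evL (algebraMap _ _ p) = ev p := fun p => IsLocalization.Away.lift_eq q hevu p
  let ψ : Aw q →ₐ[K] L[T;T⁻¹] :=
    { toRingHom := evL.comp (incl q)
      commutes' := fun k => by
        show evL (incl q (algebraMap K (Aw q) k)) = _
        rw [hzk, hevL]
        exact ev.commutes k }
  have hψv : ∀ x, ψ x = evL (incl q x) := fun _ => rfl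
  refine finite_aut_bound hK a b c ha θ θ' hne hsum hprod σ hσ u v w ?_ huw hgen ψ ?_ G ?_
  · rw [Algebra.smul_def, Algebra.smul_def, Algebra.smul_def]
    rw [← kHom_mul, ← kHom_mul, ← kHom_mul] at hlin
    exact hlin
  · have h1 : evL e * (LaurentPolynomial.C (algebraMap K L a) * LaurentPolynomial.T 1) = 1 := by
      rw [← hevq, ← hevL, ← map_mul, he, map_one]
    simp only [hψv, hu, hv, hw, map_mul, map_pow, hevL, map_ofNat]
    linear_combination LaurentPolynomial.T 1 * h1 + LaurentPolynomial.C (algebraMap K L a) * evL e *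
      (ev (X 0) - LaurentPolynomial.C θ * ev (X 1) + LaurentPolynomial.T 1) * hx1
  · intro g hg k
    have h1 := hG g hg k 1
    rwa [← kHom_mul, map_one, ← kHom_mul, mul_one] at h1

end Groth.Agent.BddFin96.PunctP1
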