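import Mathlib

/-!
Isometries of finite order of anisotropic quadratic forms.
-/

universe u v

open Polynomial Module

set_option autoImplicit false

namespace Groth.Agent.BddFin96

variable {K : Type u} [Field K]

theorem pow_apply_eq {V : Type v} [AddCommGroup V] [Module K V] (g : V ≃ₗ[K] V) (n : ℕ) (x : V) :
    (g ^ n) x = ((g : V →ₗ[K] V) ^ n) x := by
  induction n generalizing x with
  | zero => rfl
  | succ n ih => rw [pow_succ, pow_succ]; exact ih (g x)

/-- An anisotropic form has no unipotent isometry other than the identity. -/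
theorem eq_one_of_unipotent (h2 : (2 : K) ≠ 0) {V : Type v} [AddCommGroup V] [Module K V]
    (q : QuadraticForm K V) (hq : q.Anisotropic) (g : V ≃ₗ[K] V) (hg : ∀ x : V, q (g x) = q x)
    (n : ℕ) (hn : ((g : V →ₗ[K] V) - 1) ^ n = 0) : g = 1 := by
  set N : V →ₗ[K] V := (g : V →ₗ[K] V) - 1 with hN
  have step : ∀ v, N (N v) = 0 → N v = 0 := by
    intro v h
    have hgv : g v = v + N v := by simp [N]
    have hgw : g (N v) = N v := sub_eq_zero.mp h
    have hp : QuadraticMap.polar q (g v) (g (N v)) = QuadraticMap.polar q v (N v) := by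
      simp only [QuadraticMap.polar, ← map_add, hg]
    rw [hgv, hgw, QuadraticMap.polar_add_left, add_eq_left, QuadraticMap.polar_self, two_nsmul, ← two_mul] at hp
    exact hq _ ((mul_eq_zero.mp hp).resolve_left h2)
  have : ∀ k, ∀ v, (N ^ (k + 1)) v = 0 → N v = 0 := by
    intro k
    induction k with
    | zero => intro v hv; simpa using hv
    | succ k ih =>
      intro v hv
      rw [pow_succ, Module.End.mul_apply] at hv
      exact step v (ih (N v) hv)
  refine LinearEquiv.ext fun v => ?_
  have hv : N v = 0 := this n v (by rw [pow_succ', hn, mul_zero, LinearMap.zero_apply])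
  exact sub_eq_zero.mp hv

theorem eq_one_of_pow_prime_pow (p : ℕ) [Fact p.Prime] [CharP K p] (h2 : (2 : K) ≠ 0) {V : Type v}
    [AddCommGroup V] [Module K V] (q : QuadraticForm K V) (hq : q.Anisotropic) (g : V ≃ₗ[K] V)
    (hg : ∀ x : V, q (g x) = q x) (e : ℕ) (hgp : g ^ p ^ e = 1) : g = 1 := by
  refine eq_one_of_unipotent h2 q hq g hg (p ^ e) ?_
  have hg' : ((g : V →ₗ[K] V)) ^ p ^ e = 1 := LinearMap.ext fun x => by
    rw [← pow_apply_eq, hgp]; rfl
  rcases subsingleton_or_nontrivial V with hV | hV
  · exact LinearMap.ext fun x => Subsingleton.elim _ _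
  have : CharP (Module.End K V) p := charP_of_injective_algebraMap
    (algebraMap K (Module.End K V)).injective p
  rw [sub_pow_char_pow_of_commute _ _ (Commute.one_right _), hg', one_pow, sub_self]

theorem isometry_pow {V : Type v} [AddCommGroup V] [Module K V] (q : QuadraticForm K V)
    (g : V ≃ₗ[K] V) (hg : ∀ x : V, q (g x) = q x) (k : ℕ) : ∀ x : V, q ((g ^ k) x) = q x := by
  induction k with
  | zero => intro x; rfl
  | succ k ih => intro x; rw [pow_succ]; exact (ih (g x)).trans (hg x)

theorem sq_eq_one (hK : ∀ n : ℕ, 0 < n → (X ^ n - 1 : K[X]).Splits) (h2 : (2 : K) ≠ 0)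
    {V : Type v} [AddCommGroup V] [Module K V] (q : QuadraticForm K V)
    (hq : q.Anisotropic) (g : V ≃ₗ[K] V) (hg : ∀ x : V, q (g x) = q x) (d : ℕ) (hd : 0 < d)
    (hgd : g ^ d = 1) : g ^ 2 = 1 := by
  classical
  -- reduce to an exponent invertible in `K`
  obtain ⟨m, hm, hmK, hgm⟩ : ∃ m : ℕ, 0 < m ∧ (m : K) ≠ 0 ∧ g ^ m = 1 := by
    rcases CharP.exists' K with h0 | ⟨p, hp, hcp⟩
    · exact ⟨d, hd, Nat.cast_ne_zero.mpr hd.ne', hgd⟩
    · have := hp
      obtain ⟨e, m, hm, hdm⟩ := Nat.exists_eq_pow_mul_and_not_dvd hd.ne' p hp.out.ne_one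
      refine ⟨m, Nat.pos_of_ne_zero (by rintro rfl; exact hm (dvd_zero p)),
        fun h => hm ((CharP.cast_eq_zero_iff K p m).mp h), ?_⟩
      refine eq_one_of_pow_prime_pow p h2 q hq _ (isometry_pow q g hg m) e ?_
      rw [← pow_mul, mul_comm, ← hdm, hgd]
  have hsep : (X ^ m - 1 : K[X]).Separable := (X_pow_sub_one_separable_iff).mpr hmK
  set f : Module.End K V := (g : V →ₗ[K] V) with hf
  have hfm : f ^ m = 1 := LinearMap.ext fun x => by rw [← pow_apply_eq, hgm]; rfl
  set s := (X ^ m - 1 : K[X]).roots.toFinset with hs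
  have hprod : (X ^ m - 1 : K[X]) = ∏ a ∈ s, (X - C a) := by
    have := (hK m hm).eq_prod_roots_of_monic (monic_X_pow_sub_C (1 : K) hm.ne')
    rw [Finset.prod, hs, Multiset.toFinset_val, Multiset.dedup_eq_self.mpr (nodup_roots hsep)]
    exact this
  have heig : ∀ (a : K) (v : V), f v = a • v → (f ^ 2) v = v := by
    intro a v hv
    rw [sq, Module.End.mul_apply, hv, map_smul, hv, smul_smul]
    rcases eq_or_ne v 0 with rfl | hv0
    · rw [smul_zero]
    · have hq' : q (a • v) = q v := by rw [← hv]; exact hg v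
      rw [QuadraticMap.map_smul, smul_eq_mul] at hq'
      have ha : a * a = 1 := (mul_eq_right₀ (fun h => hv0 (hq _ h))).mp hq'
      rw [ha, one_smul]
  have hker : LinearMap.ker (aeval f (∏ a ∈ s, (X - C a))) ≤ LinearMap.ker (f ^ 2 - 1) := by
    have hgen : ∀ t : Finset K, LinearMap.ker (aeval f (∏ a ∈ t, (X - C a))) ≤ LinearMap.ker (f ^ 2 - 1) := by
      intro t
      induction t using Finset.induction_on with
      | empty => simp [Module.End.one_eq_id]
      | insert a t hat ih =>
        rw [Finset.prod_insert hat, ← sup_ker_aeval_eq_ker_aeval_mul_of_coprime f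
          (IsCoprime.prod_right fun b hb => isCoprime_X_sub_C_of_isUnit_sub
            (sub_ne_zero.mpr (by rintro rfl; exact hat hb)).isUnit)]
        refine sup_le (fun v hv => ?_) ih
        rw [LinearMap.mem_ker] at hv ⊢
        simp only [map_sub, aeval_X, aeval_C, LinearMap.sub_apply, Module.algebraMap_end_apply,
          sub_eq_zero] at hv
        rw [LinearMap.sub_apply, Module.End.one_apply, heig a v hv, sub_self]
    exact hgen s
  rw [← hprod, map_sub, map_pow, aeval_X, map_one, hfm, sub_self, LinearMap.ker_zero, top_le_iff] at hker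
  refine LinearEquiv.ext fun x => ?_
  rw [pow_apply_eq]
  have hx : x ∈ LinearMap.ker (f ^ 2 - 1) := hker ▸ Submodule.mem_top
  exact sub_eq_zero.mp hx

theorem commute_of_sq {G : Type v} [Group G] (h : ∀ g : G, g ^ 2 = 1) (a b : G) : a * b = b * a := by
  have inv : ∀ g : G, g⁻¹ = g := fun g => inv_eq_of_mul_eq_one_right (by rw [← sq, h])
  calc a * b = (a * b)⁻¹ := (inv _).symm
    _ = b * a := by rw [mul_inv_rev, inv, inv]

/-- Commuting involutions: at most `2 ^ dim`. -/
theorem card_le_two_pow (h2 : (2 : K) ≠ 0) (n : ℕ) : ∀ {V : Type v} [AddCommGroup V] [Module K V]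
    [FiniteDimensional K V], finrank K V = n → ∀ (G : Subgroup (V ≃ₗ[K] V)) [Finite G],
    (∀ g ∈ G, g ^ 2 = 1) → Nat.card G ≤ 2 ^ n := by
  induction n using Nat.strong_induction_on with
  | _ n ih =>
  intro V _ _ _ hn G _ hsq
  by_cases hsc : ∀ g ∈ G, (∀ x, g x = x) ∨ (∀ x, g x = -x)
  · rcases Nat.eq_zero_or_pos n with rfl | hpos
    · have : Subsingleton V := Module.finrank_zero_iff.mp hn
      have : Subsingleton G := ⟨fun a b => Subtype.ext (LinearEquiv.ext fun x => Subsingleton.elim _ _)⟩
      rw [pow_zero]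
      exact (Finite.card_le_one_iff_subsingleton.mpr this)
    · refine le_trans ?_ (Nat.le_self_pow hpos.ne' 2)
      classical
      refine le_trans (Nat.card_le_card_of_injective
        (fun g : G => decide ((g : V ≃ₗ[K] V) = 1)) ?_) (by simp)
      intro a b hab
      simp only [decide_eq_decide] at hab
      rcases hsc a a.2 with ha | ha <;> rcases hsc b b.2 with hb | hb
      · exact Subtype.ext (LinearEquiv.ext fun x => (ha x).trans (hb x).symm)
      · exact Subtype.ext ((LinearEquiv.ext ha : (a : V ≃ₗ[K] V) = 1).trans (hab.mp (LinearEquiv.ext ha)).symm)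
      · exact Subtype.ext ((hab.mpr (LinearEquiv.ext hb)).trans (LinearEquiv.ext hb : (b : V ≃ₗ[K] V) = 1).symm)
      · exact Subtype.ext (LinearEquiv.ext fun x => (ha x).trans (hb x).symm)
  · push Not at hsc
    obtain ⟨g, hgG, ⟨x₀, hx₀⟩, ⟨x₁, hx₁⟩⟩ := hsc
    have hcomm : ∀ a ∈ G, ∀ b ∈ G, a * b = b * a := fun a ha b hb =>
      congrArg Subtype.val (commute_of_sq (G := G) (fun c => Subtype.ext (hsq c c.2)) ⟨a, ha⟩ ⟨b, hb⟩)
    let P : Submodule K V := LinearMap.ker ((g : V →ₗ[K] V) - 1)
    let M : Submodule K V := LinearMap.ker ((g : V →ₗ[K] V) + 1)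
    have hgg : ∀ x, g (g x) = x := fun x => by
      have := congrArg (fun e : V ≃ₗ[K] V => e x) (hsq g hgG)
      simpa [sq] using this
    have hPtop : P ≠ ⊤ := fun h => hx₀ (sub_eq_zero.mp (h.symm ▸ Submodule.mem_top : x₀ ∈ P))
    have hMtop : M ≠ ⊤ := fun h => hx₁ (add_eq_zero_iff_eq_neg.mp (h.symm ▸ Submodule.mem_top : x₁ ∈ M))
    have hsplit : ∀ x : V, ∃ a ∈ P, ∃ b ∈ M, x = a + b := by
      intro x
      refine ⟨(2 : K)⁻¹ • (x + g x), ?_, (2 : K)⁻¹ • (x - g x), ?_, ?_⟩
      · simp [P, hgg]; abel_nf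
      · simp [M, hgg]
      · rw [← smul_add, show x + g x + (x - g x) = (2 : K) • x by rw [two_smul]; abel, smul_smul,
          inv_mul_cancel₀ h2, one_smul]
    have hdisj : P ⊓ M = ⊥ := by
      refine eq_bot_iff.mpr fun x hx => ?_
      have h1 : g x = x := sub_eq_zero.mp hx.1
      have h3 : g x = -x := add_eq_zero_iff_eq_neg.mp hx.2
      have : (2 : K) • x = 0 := by rw [two_smul]; nth_rw 2 [← h1]; rw [h3, add_neg_cancel]
      exact (smul_eq_zero.mp this).resolve_left h2
    have hsup : P ⊔ M = ⊤ := eq_top_iff.mpr fun x _ => by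
      obtain ⟨a, ha, b, hb, rfl⟩ := hsplit x
      exact Submodule.add_mem_sup ha hb
    have hdim : finrank K P + finrank K M = n := by
      have := Submodule.finrank_sup_add_finrank_inf_eq P M
      rw [hsup, hdisj, finrank_top, finrank_bot, add_zero] at this
      omega
    have hstab : ∀ a ∈ G, (∀ x ∈ P, a x ∈ P) ∧ (∀ x ∈ M, a x ∈ M) := by
      intro a ha
      have hc : ∀ x, g (a x) = a (g x) := fun x =>
        congrArg (fun e : V ≃ₗ[K] V => e x) (hcomm g hgG a ha)
      constructor
      · intro x hx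
        show g (a x) - a x = 0
        rw [hc, show g x = x from sub_eq_zero.mp hx, sub_self]
      · intro x hx
        show g (a x) + a x = 0
        rw [hc, show g x = -x from add_eq_zero_iff_eq_neg.mp hx, map_neg, neg_add_cancel]
    let res : (W : Submodule K V) → (∀ a ∈ G, ∀ x ∈ W, a x ∈ W) → (G →* (W ≃ₗ[K] W)) :=
      fun W hW =>
      { toFun := fun a => LinearEquiv.ofLinearMap
          ((a.1 : V →ₗ[K] V).restrict (hW a a.2))
          ((a.1 : V →ₗ[K] V).restrict (hW a a.2))
          (by
            refine LinearMap.ext fun x => Subtype.ext ?_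
            have := congrArg (fun e : V ≃ₗ[K] V => e x) (hsq a a.2)
            simpa [sq] using this)
          (by
            refine LinearMap.ext fun x => Subtype.ext ?_
            have := congrArg (fun e : V ≃ₗ[K] V => e x) (hsq a a.2)
            simpa [sq] using this)
        map_one' := LinearEquiv.ext fun x => Subtype.ext rfl
        map_mul' := fun a b => LinearEquiv.ext fun x => Subtype.ext rfl }
    let rP := res P (fun a ha => (hstab a ha).1)
    let rM := res M (fun a ha => (hstab a ha).2)
    have hbound : ∀ (W : Submodule K V) (hW : ∀ a ∈ G, ∀ x ∈ W, a x ∈ W), W ≠ ⊤ →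
        Nat.card (res W hW).range ≤ 2 ^ finrank K W := by
      intro W hW hWt
      have : Finite (res W hW).range := Finite.of_surjective _ (res W hW).rangeRestrict_surjective
      refine ih _ (hn ▸ Submodule.finrank_lt hWt) rfl (res W hW).range ?_
      rintro _ ⟨a, rfl⟩
      rw [← map_pow, show a ^ 2 = 1 from Subtype.ext (hsq a a.2), map_one]
    have hinj : Function.Injective (fun a : G => (rP.rangeRestrict a, rM.rangeRestrict a)) := by
      intro a b hab
      simp only [Prod.mk.injEq] at hab
      obtain ⟨hP', hM'⟩ := hab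
      have hP'' := congrArg Subtype.val hP'
      have hM'' := congrArg Subtype.val hM'
      refine Subtype.ext (LinearEquiv.ext fun x => ?_)
      obtain ⟨u, hu, w, hw, rfl⟩ := hsplit x
      rw [map_add, map_add]
      congr 1
      · exact congrArg Subtype.val (congrArg (fun e : P ≃ₗ[K] P => e ⟨u, hu⟩) hP'')
      · exact congrArg Subtype.val (congrArg (fun e : M ≃ₗ[K] M => e ⟨w, hw⟩) hM'')
    have : Finite rP.range := Finite.of_surjective _ rP.rangeRestrict_surjective
    have : Finite rM.range := Finite.of_surjective _ rM.rangeRestrict_surjective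
    refine (Nat.card_le_card_of_injective _ hinj).trans ?_
    rw [Nat.card_prod, ← hdim, pow_add]
    exact Nat.mul_le_mul (hbound P (fun a ha => (hstab a ha).1) hPtop)
      (hbound M (fun a ha => (hstab a ha).2) hMtop)

end Groth.Agent.BddFin96
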