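import Groth.Prelude.Def_GSzCSA
import Mathlib

universe u v
open Polynomial
open scoped TensorProduct

namespace Groth.Agent.BddFin96

theorem isRedNorm_algebraMap {K : Type u} [Field K] {A : Type v} [Ring A] [Nontrivial A] [Algebra K A] [FiniteDimensional K A]
    {n : ℕ} (hA : Module.finrank K A = n ^ 2) {N : A →* K} (hN : CSAGal.IsRedNorm K A N) (a : K) :
    N (algebraMap K A a) = a ^ n := by
  obtain ⟨L, _, _, _, d, φ, hφ⟩ := hN
  have hd : d = n := by
    have h1 : Module.finrank L (L ⊗[K] A) = Module.finrank L (Matrix (Fin d) (Fin d) L) :=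
      φ.toLinearEquiv.finrank_eq
    rw [Module.finrank_baseChange, hA, Module.finrank_matrix, Module.finrank_self, mul_one,
      Fintype.card_fin, sq] at h1
    exact (Nat.mul_self_inj.mp h1).symm
  subst hd
  apply (algebraMap K L).injective
  rw [hφ, map_pow]
  have h2 : (1 : L) ⊗ₜ[K] algebraMap K A a = algebraMap L (L ⊗[K] A) (algebraMap K L a) := by
    rw [← IsScalarTower.algebraMap_apply K L (L ⊗[K] A),
      ← Algebra.TensorProduct.includeRight.commutes a]
    rfl
  rw [h2, AlgEquiv.commutes, Matrix.algebraMap_eq_diagonal, Matrix.det_diagonal]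
  simp

theorem eq_algebraMap_of_pow_eq_one {K : Type u} [Field K]
    (hK : ∀ n : ℕ, 0 < n → (X ^ n - 1 : K[X]).Splits) {A : Type v} [DivisionRing A] [Algebra K A]
    {w : A} {N : ℕ} (hN : 0 < N) (hw : w ^ N = 1) : w ∈ (algebraMap K A).range := by
  have hs := hK N hN
  have hm : (X ^ N - 1 : K[X]).Monic := by simpa using monic_X_pow_sub_C (1 : K) hN.ne'
  have he : aeval w (X ^ N - 1 : K[X]) = 0 := by simp [hw]
  rw [hs.eq_prod_roots_of_monic hm] at he
  generalize (X ^ N - 1 : K[X]).roots = s at he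
  induction s using Multiset.induction_on with
  | empty => simp at he
  | cons r s ih =>
    rw [Multiset.map_cons, Multiset.prod_cons, map_mul, mul_eq_zero] at he
    rcases he with he | he
    · rw [map_sub, aeval_X, aeval_C, sub_eq_zero] at he
      exact ⟨r, he.symm⟩
    · exact ih he

theorem pow_coprimePart_mem_center {K : Type u} [Field K] (hK : ∀ n : ℕ, 0 < n → (X ^ n - 1 : K[X]).Splits)
    {A : Type v} [DivisionRing A] [Algebra K A] [FiniteDimensional K A]
    (n n' q : ℕ) (hA : Module.finrank K A = n ^ 2) (hn : n = n' * q) (hq : 0 < q)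
    (N : A →* K) (hN : CSAGal.IsRedNorm K A N) (x : A) (r : ℕ) (hr : 0 < r)
    (hxr : x ^ r ∈ (algebraMap K A).range) (b : K) (hb : b ≠ 0) (hNx : N x = b ^ q) :
    x ^ n' ∈ (algebraMap K A).range := by
  obtain ⟨a, ha⟩ := hxr
  have h1 : a ^ n = b ^ (q * r) := by
    rw [← isRedNorm_algebraMap hA hN a, ha, map_pow, hNx, ← pow_mul]
  let w : A := x ^ n' * algebraMap K A b⁻¹
  have hc : Commute (x ^ n') (algebraMap K A b⁻¹) := (Algebra.commutes b⁻¹ _).symm
  have hw : w ^ (q * r) = 1 := by
    rw [hc.mul_pow, ← pow_mul, show n' * (q * r) = r * n by rw [hn]; ring, pow_mul, ← ha, ← map_pow,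
      ← map_pow, ← map_mul, h1, ← mul_pow, mul_inv_cancel₀ hb, one_pow, map_one]
  obtain ⟨z, hz⟩ := eq_algebraMap_of_pow_eq_one hK (Nat.mul_pos hq hr) hw
  refine ⟨z * b, ?_⟩
  rw [map_mul, hz, mul_assoc, ← map_mul, inv_mul_cancel₀ hb, map_one, mul_one]

end Groth.Agent.BddFin96
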