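import Groth.Prelude.Def_HopfRep
import Groth.Prelude.Def_ComodSub
import Groth.Agent.Comod33.Finite
import Groth.Agent.Comod33.Points
import Groth.Agent.S7960
import Mathlib.RingTheory.HopfAlgebra.Convolution

/-!
Rational points of finite order prime to the characteristic in a unipotent group are trivial.
-/

universe u v

open TensorProduct

noncomputable section

namespace Groth.Agent.BddFin96

open Groth.Agent.Comod33

theorem eq_zero_of_nilpotent_of_pow_eq_one {k : Type u} [Field k] {R : Type v} [Ring R] [Algebra k R]
    {x : R} {N m : ℕ} (hN : (N : k) ≠ 0) (hx : x ^ N = 1) (hm : (x - 1) ^ m = 0) : x = 1 := by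
  let Q : Polynomial k := ∑ i ∈ Finset.range N, Polynomial.X ^ i
  have hQ : Q * (Polynomial.X - 1) = Polynomial.X ^ N - 1 := geom_sum_mul _ _
  have hev : Q.eval 1 = (N : k) := by simp [Q, Polynomial.eval_finset_sum]
  have hcop : IsCoprime ((Polynomial.X - Polynomial.C (1 : k)) ^ m) Q := by
    refine IsCoprime.pow_left ?_
    rw [(Polynomial.irreducible_X_sub_C (1 : k)).coprime_iff_not_dvd,
      Polynomial.dvd_iff_isRoot, Polynomial.IsRoot, hev]
    exact hN
  obtain ⟨s, t, hst⟩ := hcop
  have h := congrArg (fun p => Polynomial.aeval x (p * (Polynomial.X - Polynomial.C (1 : k)))) hst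
  simp only [map_one, one_mul, add_mul, mul_assoc, hQ, map_add, map_mul, map_sub, map_pow,
    Polynomial.aeval_X, hm, hx, sub_self, mul_zero, zero_mul, add_zero] at h
  exact sub_eq_zero.1 h.symm

theorem point_eq_one_of_isUnipotent {K : Type u} [Field K] {A : Type v} [CommRing A] [HopfAlgebra K A]
    [Algebra.FiniteType K A] (hU : HopfRep.IsUnipotent K A) (g : WithConv (A →ₐ[K] K))
    (hg : IsOfFinOrder g) (hcop : ((orderOf g : ℕ) : K) ≠ 0) : g = 1 := by
  have hact : ∀ a : A, HopfRep.Comod.act K A A g.ofConv a = a := by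
    intro a
    let U := gen (k := K) (A := A) a
    have hUs : HopfRep.IsSubcomod (k := K) (A := A) U := isSubcomod_gen a
    letI cU : HopfRep.Comod K A U := ComodSub.Comod.restr inferInstance U hUs
    obtain ⟨m, F, -, hF0, hFm, -, hF⟩ := (Groth.Agent.S7960.result K A).mp hU U (finite_gen a)
    let x : Module.End K U := actHom K A U g
    have hstep : ∀ i, ∀ v ∈ F (i + 1), (x - 1) v ∈ F i := by
      intro i v hv
      have h := hF i v hv
      rw [mem_range_rTensor_iff] at h
      have h2 := h g.ofConv.toLinearMap
      rw [map_sub, rc_tmul] at h2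
      simpa [x, actHom_apply, act_eq_dact, dact_apply] using h2
    have hpow : ∀ i, ∀ v ∈ F i, ((x - 1) ^ i) v = 0 := by
      intro i
      induction i with
      | zero => intro v hv; rw [hF0, Submodule.mem_bot] at hv; simp [hv]
      | succ i ih =>
        intro v hv
        rw [pow_succ, Module.End.mul_apply]
        exact ih _ (hstep i v hv)
    have hnil : (x - 1) ^ m = 0 := LinearMap.ext fun v => hpow m v (hFm ▸ trivial)
    have hxN : x ^ orderOf g = 1 := by
      show (actHom K A U g) ^ orderOf g = 1
      rw [← map_pow, pow_orderOf_eq_one, map_one]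
    have hx1 : x = 1 := eq_zero_of_nilpotent_of_pow_eq_one (k := K) (R := Module.End K U) hcop hxN hnil
    have h3 : U.subtype (x ⟨a, mem_gen a⟩) = HopfRep.Comod.act K A A g.ofConv a := by
      show U.subtype (rc g.ofConv.toLinearMap (HopfRep.Comod.coact (k := K) (A := A) _)) =
        rc g.ofConv.toLinearMap (HopfRep.Comod.coact (k := K) (A := A) a)
      rw [← rc_rTensor]
      congr 1
      exact ComodSub.restr_coact_coe _ _ _ _
    rw [hx1] at h3
    exact h3.symm
  apply WithConv.ofConv_injective
  apply AlgHom.ext
  intro a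
  have h := counit_act (k := K) (A := A) g.ofConv a
  rw [hact a] at h
  rw [← h]
  simp [AlgHom.convOne_def]

end Groth.Agent.BddFin96
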