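import Mathlib

/-!
Finite subgroups of the units of an algebra modulo the scalars.
-/

universe u v

open Polynomial Module

set_option autoImplicit false

namespace Groth.Agent.BddFin96

theorem exists_large_subgroup {K : Type u} [Field K] (p : ℕ) [Fact p.Prime] [CharP K p] {A : Type v}
    [DivisionRing A] [Algebra K A] [FiniteDimensional K A] [Algebra.IsCentral K A] (w : A)
    (hw : w ^ p ∈ (algebraMap K A).range) (hwK : w ∉ (algebraMap K A).range) (N : ℕ) :
    ∃ H : Subgroup Aˣ, (Units.map (algebraMap K A : K →* A)).range ≤ H ∧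
      N < ((Units.map (algebraMap K A : K →* A)).range).relIndex H := by
  classical
  have hKinf : Infinite K := by
    by_contra hfin
    rw [not_infinite_iff_finite] at hfin
    have : Finite A := Module.finite_of_finite K
    have hcomm : ∀ a b : A, a * b = b * a := (littleWedderburn A).mul_comm
    have hc : w ∈ Subalgebra.center K A := Subalgebra.mem_center_iff.mpr fun b => hcomm b w
    rw [Algebra.IsCentral.center_eq_bot] at hc
    exact hwK (Algebra.mem_bot.mp hc)
  have : CharP A p := charP_of_injective_algebraMap (algebraMap K A).injective p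
  let φ : Kˣ →* Aˣ := Units.map (algebraMap K A : K →* A)
  have hne : ∀ a : K, w + algebraMap K A a ≠ 0 := fun a h =>
    hwK ⟨-a, by rw [map_neg]; exact (eq_neg_of_add_eq_zero_left h).symm⟩
  let u : K → Aˣ := fun a => Units.mk0 _ (hne a)
  have hpow : ∀ a, u a ^ p ∈ φ.range := by
    intro a
    obtain ⟨b, hb⟩ := hw
    have hval : ((u a ^ p : Aˣ) : A) = algebraMap K A (b + a ^ p) := by
      rw [Units.val_pow_eq_pow_val, map_add, map_pow, hb]
      exact add_pow_char_of_commute p (Algebra.commute_algebraMap_right a w)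
    have hb0 : b + a ^ p ≠ 0 := fun h0 => (u a ^ p).ne_zero (by rw [hval, h0, map_zero])
    exact ⟨Units.mk0 _ hb0, Units.ext hval.symm⟩
  obtain ⟨s, hs⟩ := Infinite.exists_subset_card_eq K (N + 1)
  refine ⟨φ.range ⊔ Subgroup.closure (u '' (s : Set K)), le_sup_left, ?_⟩
  set H := φ.range ⊔ Subgroup.closure (u '' (s : Set K)) with hH
  have hcentral : ∀ (c : Kˣ) (g : Aˣ), φ c * g = g * φ c := fun c g =>
    Units.ext (Algebra.commutes (c : K) (g : A))
  have hucomm : ∀ a b, u a * u b = u b * u a := by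
    intro a b
    apply Units.ext
    show (w + algebraMap K A a) * (w + algebraMap K A b) = (w + algebraMap K A b) * (w + algebraMap K A a)
    rw [add_mul, mul_add, mul_add, add_mul, mul_add, mul_add, Algebra.commutes a w,
      Algebra.commutes b w, ← map_mul, ← map_mul, mul_comm a b]
    abel
  -- `H` is commutative
  have hHle : H ≤ Subgroup.centralizer (H : Set Aˣ) := by
    have hgen : ∀ x ∈ ((φ.range : Set Aˣ) ∪ u '' (s : Set K)), ∀ y ∈ ((φ.range : Set Aˣ) ∪ u '' (s : Set K)),
        x * y = y * x := by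
      rintro x (⟨c, rfl⟩ | ⟨a, -, rfl⟩) y (⟨d, rfl⟩ | ⟨b, -, rfl⟩)
      · exact hcentral c _
      · exact hcentral c _
      · exact (hcentral d _).symm
      · exact hucomm a b
    have hHcl : H = Subgroup.closure ((φ.range : Set Aˣ) ∪ u '' (s : Set K)) := by
      rw [Subgroup.closure_union, Subgroup.closure_eq]
    rw [hHcl, Subgroup.centralizer_closure, Subgroup.closure_le]
    intro x hx
    exact Subgroup.mem_centralizer_iff.mpr fun y hy => (hgen x hx y hy).symm
  let _ : CommGroup H :=
    { (inferInstance : Group H) with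
      mul_comm := fun x y =>
        Subtype.ext (Subgroup.mem_centralizer_iff.mp (hHle y.2) x x.2) }
  have hmem : ∀ a : s, u a ∈ H := fun a => Subgroup.mem_sup_right (Subgroup.subset_closure ⟨a, a.2, rfl⟩)
  let K0 : Subgroup H := φ.range.subgroupOf H
  let v : s → H ⧸ K0 := fun a => QuotientGroup.mk (⟨u a, hmem a⟩ : H)
  have hvinj : Function.Injective v := by
    intro a b hab
    obtain ⟨c, hc⟩ := Subgroup.mem_subgroupOf.mp (QuotientGroup.eq.mp hab)
    have h1 : (u a : A) * algebraMap K A c = u b := by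
      have h2 : u a * φ c = u b := by
        rw [hc]
        show u a * ((u a)⁻¹ * u b) = u b
        rw [mul_inv_cancel_left]
      exact congrArg Units.val h2
    simp only [u, Units.val_mk0] at h1
    have h3 : algebraMap K A ((c : K) - 1) * w = algebraMap K A ((b : K) - a * c) := by
      rw [add_mul, ← map_mul, ← Algebra.commutes (c : K) w] at h1
      simp only [map_sub, map_one, sub_mul, one_mul]
      calc algebraMap K A c * w - w
          = (algebraMap K A c * w + algebraMap K A (a * c)) - w - algebraMap K A (a * c) := by abel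
        _ = (w + algebraMap K A b) - w - algebraMap K A (a * c) := by rw [h1]
        _ = _ := by abel
    rcases eq_or_ne ((c : K) - 1) 0 with h0 | h0
    · rw [h0, map_zero, zero_mul, sub_eq_zero.mp h0, mul_one] at h3
      exact Subtype.ext (sub_eq_zero.mp ((algebraMap K A).injective (by rw [← h3, map_zero]))).symm
    · refine absurd ⟨((c : K) - 1)⁻¹ * ((b : K) - a * c), ?_⟩ hwK
      rw [map_mul, ← h3, ← mul_assoc, ← map_mul, inv_mul_cancel₀ h0, map_one, one_mul]
  -- the quotient is a finitely generated torsion abelian group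
  let S : Set (H ⧸ K0) := Set.range v
  have htop : Subgroup.closure S = ⊤ := by
    rw [eq_top_iff]
    intro q _
    obtain ⟨⟨g, hg⟩, rfl⟩ := QuotientGroup.mk_surjective q
    let T : Subgroup H := (Subgroup.closure S).comap (QuotientGroup.mk' K0)
    suffices hT : H ≤ T.map H.subtype by
      obtain ⟨g', hg', he⟩ := hT hg
      obtain rfl : g' = ⟨g, hg⟩ := Subtype.ext he
      exact hg'
    refine sup_le ?_ ((Subgroup.closure_le _).mpr ?_)
    · rintro _ ⟨c, rfl⟩
      refine ⟨⟨φ c, Subgroup.mem_sup_left ⟨c, rfl⟩⟩, ?_, rfl⟩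
      show (QuotientGroup.mk (s := K0) _) ∈ Subgroup.closure S
      rw [(QuotientGroup.eq_one_iff _).mpr (Subgroup.mem_subgroupOf.mpr (MonoidHom.mem_range.mpr ⟨c, rfl⟩))]
      exact one_mem _
    · rintro _ ⟨a, ha, rfl⟩
      refine ⟨⟨u a, hmem ⟨a, ha⟩⟩, ?_, rfl⟩
      show v ⟨a, ha⟩ ∈ Subgroup.closure S
      exact Subgroup.subset_closure ⟨⟨a, ha⟩, rfl⟩
  have : Group.FG (H ⧸ K0) := ⟨(Subgroup.fg_iff _).mpr ⟨S, htop, Set.finite_range v⟩⟩
  have htor : Monoid.IsTorsion (H ⧸ K0) := by
    intro q
    have hq : q ∈ Subgroup.closure S := htop ▸ Subgroup.mem_top q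
    have : q ^ p = 1 := by
      induction hq using Subgroup.closure_induction with
      | mem x hx =>
        obtain ⟨a, rfl⟩ := hx
        show (QuotientGroup.mk (s := K0) _) ^ p = 1
        rw [← QuotientGroup.mk_pow, QuotientGroup.eq_one_iff]
        exact Subgroup.mem_subgroupOf.mpr (hpow a)
      | one => exact one_pow p
      | mul x y _ _ hx hy => rw [mul_pow, hx, hy, one_mul]
      | inv x _ hx => rw [inv_pow, hx, inv_one]
    exact isOfFinOrder_iff_pow_eq_one.mpr ⟨p, (Fact.out : p.Prime).pos, this⟩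
  have : Finite (H ⧸ K0) := CommGroup.finite_of_fg_torsion _ htor
  show N < Nat.card (H ⧸ K0)
  have := Nat.card_le_card_of_injective v hvinj
  rw [Nat.card_eq_fintype_card, Fintype.card_coe, hs] at this
  omega

theorem exists_torsion_of_idempotent {K : Type u} [Field K] {A : Type v} [Ring A] [Algebra K A]
    {d : ℕ} (hd : 0 < d) {ζ : K} (hζ : IsPrimitiveRoot ζ d) {e : A} (he : e * e = e) (he0 : e ≠ 0)
    (he1 : e ≠ 1) :
    ∃ x : A, IsUnit x ∧ x ^ d ∈ (algebraMap K A).range ∧
      ∀ k : ℕ, 0 < k → k < d → x ^ k ∉ (algebraMap K A).range := by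
  let f : A := 1 - e
  have hef : e * f = 0 := by simp [f, mul_sub, he]
  have hfe : f * e = 0 := by simp [f, sub_mul, he]
  have hff : f * f = f := by simp [f, mul_sub, sub_mul, he]
  have hpow : ∀ k : ℕ, (algebraMap K A ζ * e + f) ^ k = algebraMap K A (ζ ^ k) * e + f := by
    intro k
    induction k with
    | zero => simp [f]
    | succ k ih =>
      rw [pow_succ, ih, add_mul, mul_add, mul_add, mul_assoc (algebraMap K A (ζ ^ k)) e,
        ← mul_assoc e (algebraMap K A ζ), ← Algebra.commutes ζ e, mul_assoc (algebraMap K A ζ) e e, he,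
        ← mul_assoc, ← map_mul, ← pow_succ, mul_assoc, hef, mul_zero,
        ← mul_assoc f (algebraMap K A ζ), ← Algebra.commutes ζ f, mul_assoc, hfe, mul_zero, zero_add, hff,
        add_zero]
  have hd1 : (algebraMap K A ζ * e + f) ^ d = 1 := by
    rw [hpow, hζ.pow_eq_one, map_one, one_mul]
    simp [f]
  refine ⟨algebraMap K A ζ * e + f, IsUnit.of_pow_eq_one hd1 hd.ne', ⟨1, by rw [hd1, map_one]⟩,
    fun k hk hkd ⟨c, hc⟩ => ?_⟩
  rw [hpow] at hc
  have h1 : algebraMap K A (c - ζ ^ k) * e = 0 := by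
    rw [map_sub, sub_mul, hc, add_mul, hfe, add_zero, mul_assoc, he, sub_self]
  have h2 : algebraMap K A (c - 1) * f = 0 := by
    rw [map_sub, sub_mul, hc, add_mul, hff, map_one, one_mul, mul_assoc, hef, mul_zero, zero_add, sub_self]
  have cancel : ∀ (a : K) (z : A), algebraMap K A a * z = 0 → z ≠ 0 → a = 0 := by
    intro a z h hz
    by_contra ha
    apply hz
    have := congrArg (algebraMap K A a⁻¹ * ·) h
    simpa [← mul_assoc, ← map_mul, ha] using this
  have c1 := sub_eq_zero.mp (cancel _ _ h1 he0)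
  have c2 := sub_eq_zero.mp (cancel _ _ h2 (sub_ne_zero.mpr he1.symm))
  have hle := Nat.le_of_dvd hk ((hζ.pow_eq_one_iff_dvd k).mp (c1.symm.trans c2))
  omega

theorem exists_nontrivial_idempotent (A : Type v) [Ring A] [IsSimpleRing A] [IsArtinianRing A]
    (hA : ∃ y : A, y ≠ 0 ∧ ¬ IsUnit y) : ∃ e : A, e * e = e ∧ e ≠ 0 ∧ e ≠ 1 := by
  classical
  obtain ⟨n, hn, D, _, ⟨φ⟩⟩ := IsSimpleRing.exists_ringEquiv_matrix_divisionRing A
  by_cases h2 : n = 1
  · exfalso
    subst h2
    obtain ⟨y, hy0, hy⟩ := hA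
    let ψ : A ≃+* D := φ.trans Matrix.uniqueRingEquiv
    have hψy : ψ y ≠ 0 := fun h => hy0 (ψ.injective (by rw [h, map_zero]))
    exact hy (by simpa using (isUnit_iff_ne_zero.mpr hψy).map ψ.symm)
  · have : NeZero n := hn
    have h1 : 1 < n := by have := NeZero.ne n; omega
    let E : Matrix (Fin n) (Fin n) D := Matrix.single 0 0 1
    have hE : E * E = E := by simp [E]
    have hE0 : E ≠ 0 := fun h => by
      have := congrFun (congrFun h 0) 0
      simp [E] at this
    have hE1 : E ≠ 1 := fun h => by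
      have hne : (0 : Fin n) ≠ ⟨1, h1⟩ := fun hh => absurd (congrArg Fin.val hh) (by simp)
      have := congrFun (congrFun h ⟨1, h1⟩) ⟨1, h1⟩
      simp [E, hne] at this
    exact ⟨φ.symm E, by rw [← map_mul, hE], by simpa using hE0, by simpa using hE1⟩

end Groth.Agent.BddFin96
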